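import Cfsg.Agent.Lib.PLocal.CStar.Three.Move

/-!
When the residual of a parabolic fixes the fixed points of its core, it fixes every plane pointwise.
-/

set_option linter.all false
set_option autoImplicit false

namespace Cfsg.Agent.PLocal.CStar.Three

open Subgroup
open Cfsg.Lib.Offender (fixed mem_fixed)
open Cfsg.Agent.FFNatural (cg mem_cg cg_one cg_cg card_cg exists_fixed_vector' mul_app inv_app app_inv)
open Cfsg.Agent.PLocal.CStar (vfix)

universe u v w

variable {Γ : Type u} {V : Type v} [Group Γ] [AddCommGroup V] [Module (ZMod 3) V]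
variable [Finite Γ] [Finite V] [Fact (Nat.Prime 3)]
variable {f : Representation (ZMod 3) Γ V} {T : Sylow 3 Γ} {J : Subgroup Γ} {𝒜 : Set (Subgroup Γ)}
variable {ι : Type w} {P : ι → Plane f} {Q : Subgroup Γ}

/-- The common complement. -/
def cp (P : ι → Plane f) : Submodule (ZMod 3) V := ⨅ k, LinearMap.ker (P k).pr

/-- The sum of the planes. -/
def planeSum (P : ι → Plane f) : Submodule (ZMod 3) V := ⨆ k, LinearMap.range (P k).pr

/-- The normal closure in `Q` of the elements of the core fixing all members. -/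
def rN (P : ι → Plane f) (T : Sylow 3 Γ) (Q : Subgroup Γ) : Subgroup Γ :=
  ⨆ q : ↥Q, cg (q : Γ) (core T Q ⊓ fixers P)

theorem rN_le_core : rN P T Q ≤ core T Q := by
  refine iSup_le fun q => ?_
  rintro _ ⟨n, hn, rfl⟩
  exact core_conj Q hn.1 q.2

theorem conj_mem_rN {g : Γ} (hg : g ∈ rN P T Q) {q : Γ} (hq : q ∈ Q) : q * g * q⁻¹ ∈ rN P T Q := by
  have h : cg q (rN P T Q) ≤ rN P T Q := by
    simp only [rN, cg, Subgroup.map_iSup]
    refine iSup_le fun r => ?_
    show cg q (cg (r : Γ) _) ≤ _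
    rw [cg_cg]
    exact le_iSup (fun r : ↥Q => cg (r : Γ) (core T Q ⊓ fixers P)) ⟨q * r, mul_mem hq r.2⟩
  exact h ⟨g, hg, rfl⟩

theorem mem_Q_split (hTQ : (T : Subgroup Γ) ≤ Q) {q : Γ} (hq : q ∈ Q) :
    ∃ c ∈ res Q, ∃ t ∈ (T : Subgroup Γ), q = c * t := by
  have h := le_res_sup hTQ hq
  rw [← SetLike.mem_coe, Subgroup.coe_mul_of_right_le_normalizer_left _ _ (hTQ.trans (res_normal Q))] at h
  obtain ⟨c, hc, t, ht, e⟩ := h
  exact ⟨c, hc, t, ht, e.symm⟩

namespace Top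

variable (c : Top f T J 𝒜 P Q)
include c

theorem res_invariant {q : Γ} (hq : q ∈ Q) {v : V} (hv : v ∈ fixed f (res Q)) : f q v ∈ fixed f (res Q) :=
  fixed_map (res_normal Q hq) hv

theorem comm_min {B : Subgroup Γ} (hB : Min 𝒜 T B) {b o : Γ} (hb : b ∈ B) (ho : o ∈ core T Q) :
    b * o * b⁻¹ * o⁻¹ ∈ core T Q ⊓ fixers P := by
  have hbT := hB.2.1 hb
  refine ⟨(core T Q).mul_mem (core_conj Q ho (c.le hbT)) ((core T Q).inv_mem ho), ?_⟩
  have hle : cg o B ≤ (T : Subgroup Γ) := by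
    rintro _ ⟨x, hx, rfl⟩
    exact mul_mem (mul_mem (core_le Q ho) (hB.2.1 hx)) (inv_mem (core_le Q ho))
  rw [show b * o * b⁻¹ * o⁻¹ = b * (o * b * o⁻¹)⁻¹ by group]
  exact (fixers P).mul_mem (c.min_fixers hB hb) ((fixers P).inv_mem (c.min_fixers (hB.conj c.fam hle) ⟨b, hb, rfl⟩))

theorem res_centralizes {g o : Γ} (hg : g ∈ res Q) (ho : o ∈ core T Q) :
    g * o * g⁻¹ * o⁻¹ ∈ rN P T Q := by
  let S : Subgroup Γ :=
    { carrier := {g | g ∈ Q ∧ ∀ o ∈ core T Q, g * o * g⁻¹ * o⁻¹ ∈ rN P T Q}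
      one_mem' := ⟨one_mem _, fun o _ => by simp⟩
      mul_mem' := fun {a b} ha hb => ⟨mul_mem ha.1 hb.1, fun o ho => by
        rw [show a * b * o * (a * b)⁻¹ * o⁻¹ = a * (b * o * b⁻¹ * o⁻¹) * a⁻¹ * (a * o * a⁻¹ * o⁻¹) by group]
        exact mul_mem (conj_mem_rN (hb.2 o ho) ha.1) (ha.2 o ho)⟩
      inv_mem' := fun {a} ha => ⟨inv_mem ha.1, fun o ho => by
        have h1 := ha.2 _ (core_conj Q ho (inv_mem ha.1))
        rw [show a * (a⁻¹ * o * a⁻¹⁻¹) * a⁻¹ * (a⁻¹ * o * a⁻¹⁻¹)⁻¹ =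
          (a⁻¹ * o * a⁻¹⁻¹ * o⁻¹)⁻¹ by group] at h1
        exact inv_mem_iff.1 h1⟩ }
  suffices hle : res Q ≤ S from (hle hg).2 o ho
  refine c.res_le_conj.trans (iSup_le fun x => ?_)
  rintro _ ⟨b, hb, rfl⟩
  refine ⟨mul_mem (mul_mem x.1.2 (c.le (x.2.2.2.1 hb))) (inv_mem x.1.2), fun o ho => ?_⟩
  show (x.1 : Γ) * b * (x.1 : Γ)⁻¹ * o * ((x.1 : Γ) * b * (x.1 : Γ)⁻¹)⁻¹ * o⁻¹ ∈ _
  have ho' : (x.1 : Γ)⁻¹ * o * (x.1 : Γ) ∈ core T Q := by simpa using core_conj Q ho (inv_mem x.1.2)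
  have h1 := conj_mem_rN (P := P) (T := T) (le_iSup (fun q : ↥Q => cg (q : Γ) (core T Q ⊓ fixers P)) 1
    (by rw [OneMemClass.coe_one, cg_one]; exact c.comm_min x.2.2 hb ho')) x.1.2
  rw [show (x.1 : Γ) * b * (x.1 : Γ)⁻¹ * o * ((x.1 : Γ) * b * (x.1 : Γ)⁻¹)⁻¹ * o⁻¹ =
    (x.1 : Γ) * (b * ((x.1 : Γ)⁻¹ * o * (x.1 : Γ)) * b⁻¹ * ((x.1 : Γ)⁻¹ * o * (x.1 : Γ))⁻¹) * (x.1 : Γ)⁻¹ by
      group]
  exact h1

theorem rN_move {r : Γ} (hr : r ∈ rN P T Q) {y : V} (hy : ∀ o ∈ core T Q, f o y - y ∈ fixed f (res Q)) :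
    f r y - y ∈ fixed f (res Q) ⊓ cp P := by
  have hCW : ∀ z ∈ fixed f (res Q), ∀ o ∈ core T Q, f o z - z ∈ fixed f (res Q) := fun z hz o ho =>
    sub_mem (c.res_invariant (core_le_right Q ho) hz) hz
  let S : Subgroup Γ :=
    { carrier := {r | r ∈ core T Q ∧ ∀ y, (∀ o ∈ core T Q, f o y - y ∈ fixed f (res Q)) →
        f r y - y ∈ fixed f (res Q) ⊓ cp P}
      one_mem' := ⟨one_mem _, fun y _ => by simp⟩
      mul_mem' := fun {a b} ha hb => ⟨mul_mem ha.1 hb.1, fun y hy => by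
        have h1 := hb.2 y hy
        have e : f (a * b) y - y = (f a (f b y - y) - (f b y - y)) + (f b y - y) + (f a y - y) := by
          rw [mul_app, map_sub]; abel
        rw [e]
        exact add_mem (add_mem (ha.2 _ (hCW _ h1.1)) h1) (ha.2 y hy)⟩
      inv_mem' := fun {a} ha => ⟨inv_mem ha.1, fun y hy => by
        have h1 := ha.2 (f a⁻¹ y) fun o ho => by
          have h0 : f a⁻¹ y - y ∈ fixed f (res Q) := hy _ (inv_mem ha.1)
          have e : f o (f a⁻¹ y) - f a⁻¹ y =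
              (f o (f a⁻¹ y - y) - (f a⁻¹ y - y)) + (f o y - y) := by rw [map_sub]; abel
          rw [e]
          exact add_mem (hCW _ h0 o ho) (hy o ho)
        rw [app_inv] at h1
        simpa using neg_mem h1⟩ }
  suffices hle : rN P T Q ≤ S from (hle hr).2 y hy
  refine iSup_le fun q => ?_
  rintro _ ⟨n, hn, rfl⟩
  refine ⟨core_conj Q hn.1 q.2, fun y hy => ?_⟩
  obtain ⟨d, hd, t, ht, e⟩ := mem_Q_split c.le q.2
  have hn' : t * n * t⁻¹ ∈ core T Q ⊓ fixers P :=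
    ⟨core_conj Q hn.1 (c.le ht), (mem_normalizer_iff.1 (c.fam.T_norm_fixers ht) n).1 hn.2⟩
  show f ((q : Γ) * n * (q : Γ)⁻¹) y - y ∈ _
  rw [e, show d * t * n * (d * t)⁻¹ = d * (t * n * t⁻¹) * d⁻¹ by group]
  set m := t * n * t⁻¹
  have hdQ := res_le Q hd
  set y' := f d⁻¹ y
  have hy' : f m y' - y' ∈ fixed f (res Q) := by
    have h1 := hy (d * m * d⁻¹) (core_conj Q hn'.1 hdQ)
    have e1 : f m y' - y' = f d⁻¹ (f (d * m * d⁻¹) y - y) := by
      simp only [y', map_sub, mul_app, inv_app]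
    rw [e1]
    exact c.res_invariant (inv_mem hdQ) h1
  have e2 : f (d * m * d⁻¹) y - y = f d (f m y' - y') := by
    simp only [y', map_sub, mul_app, app_inv]
  rw [e2, hy' d hd]
  exact ⟨hy', (Submodule.mem_iInf _).2 fun k => LinearMap.mem_ker.2 (fixers_move hn'.2 k _)⟩

variable (hfix : res Q ≤ vfix f (fixed f (core T Q)))
include hfix

/-- An invariant subspace on which the normal closure is trivial is fixed by the residual. -/
theorem absorb {S : Submodule (ZMod 3) V} (hS : ∀ o ∈ core T Q, ∀ v ∈ S, f o v ∈ S)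
    (hR : ∀ e ∈ S, (∀ o ∈ core T Q, f o e - e ∈ fixed f (res Q)) → ∀ r ∈ rN P T Q, f r e = e) :
    S ≤ fixed f (res Q) := by
  by_contra hne
  set C := fixed f (res Q)
  let ρ : Representation (ZMod 3) ↥(core T Q) (V ⧸ C) :=
    { toFun := fun o => C.mapQ C (f (o : Γ)) fun v hv => c.res_invariant (core_le_right Q o.2) hv
      map_one' := Submodule.linearMap_qext _ (LinearMap.ext fun v => by
        show C.mkQ (f ((1 : ↥(core T Q)) : Γ) v) = C.mkQ v
        rw [OneMemClass.coe_one, map_one, Module.End.one_apply])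
      map_mul' := fun o o' => Submodule.linearMap_qext _ (LinearMap.ext fun v => by
        show C.mkQ (f ((o * o' : ↥(core T Q)) : Γ) v) = C.mkQ (f (o : Γ) (f (o' : Γ) v))
        rw [Subgroup.coe_mul, mul_app]) }
  haveI : Finite (V ⧸ C) := Finite.of_surjective _ (Submodule.mkQ_surjective _)
  have hU : S.map C.mkQ ≠ ⊥ := fun e => hne (by
    intro v hv
    have : C.mkQ v ∈ S.map C.mkQ := ⟨v, hv, rfl⟩
    rw [e, Submodule.mem_bot] at this
    exact (Submodule.Quotient.mk_eq_zero C).1 this)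
  obtain ⟨_, ⟨e, he, rfl⟩, hne0, hfx⟩ := exists_fixed_vector' (f := ρ) (S := (⊤ : Subgroup ↥(core T Q)))
    ((T.isPGroup'.to_le (core_le Q)).to_subgroup _) hU (by
      rintro o - _ ⟨v, hv, rfl⟩
      exact ⟨f (o : Γ) v, hS o o.2 v hv, rfl⟩)
  have he' : ∀ o ∈ core T Q, f o e - e ∈ C := fun o ho => by
    have h1 : C.mkQ (f o e) = C.mkQ e := hfx ⟨o, ho⟩ trivial
    exact (Submodule.Quotient.eq C).1 h1
  have hre := hR e he he'
  refine hne0 ((Submodule.Quotient.mk_eq_zero C).2 fun g hg => sub_eq_zero.1 ?_)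
  refine res_hom (Q := Q) (χ := fun g => f g e - e) (fun a ha b hb => ?_) g hg
  have hM : ∀ d ∈ res Q, f d e - e ∈ fixed f (core T Q) := by
    intro d hd o ho
    have h1 : f o (f d e) = f d (f (d⁻¹ * o * d) e) := by
      rw [← mul_app, ← mul_app]; congr 2; group
    have h2 : f (d⁻¹ * o * d) e = f o e := by
      have hr := c.res_centralizes (inv_mem hd) ho
      rw [inv_inv] at hr
      have hr' : o⁻¹ * (d⁻¹ * o * d * o⁻¹) * o ∈ rN P T Q := by
        simpa using conj_mem_rN hr (inv_mem (core_le_right Q ho))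
      rw [show d⁻¹ * o * d = o * (o⁻¹ * (d⁻¹ * o * d * o⁻¹) * o) by group, mul_app, hre _ hr']
    have h3 : f d (f o e - e) = f o e - e := he' o ho d hd
    rw [map_sub] at h3
    rw [map_sub, h1, h2, sub_eq_sub_iff_sub_eq_sub, h3]
  have h4 : f a (f b e - e) = f b e - e := hfix ha _ (hM b hb)
  rw [map_sub] at h4
  show f (a * b) e - e = (f a e - e) + (f b e - e)
  rw [mul_app, show f a (f b e) = f a e + (f b e - e) by rw [← h4]; abel]
  abel

theorem planeSum_invariant {t : Γ} (ht : t ∈ (T : Subgroup Γ)) {v : V} (hv : v ∈ planeSum P) :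
    f t v ∈ planeSum P := by
  refine (show planeSum P ≤ (planeSum P).comap (f t) from iSup_le fun k x hx => ?_) hv
  obtain ⟨u, rfl⟩ := hx
  obtain ⟨m, hm⟩ := c.fam.planes.perm t ht k
  exact Submodule.mem_iSup_of_mem m ⟨f t u, c.fam.planes.pr_map hm u⟩

omit hfix in
/-- The planes meet their common complement trivially. -/
theorem planeSum_inf [Finite ι] : planeSum P ⊓ cp P = ⊥ := by
  classical
  haveI := Fintype.ofFinite {X : Subgroup Γ // ∃ k, (P k).E = X}
  let π : V →ₗ[ZMod 3] V := ∑ X : {X : Subgroup Γ // ∃ k, (P k).E = X}, (P X.2.choose).pr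
  have h1 : planeSum P ≤ LinearMap.eqLocus π LinearMap.id := iSup_le fun k => by
    rintro _ ⟨u, rfl⟩
    show π ((P k).pr u) = (P k).pr u
    rw [LinearMap.sum_apply, Fintype.sum_eq_single ⟨(P k).E, k, rfl⟩ fun X hX => ?_]
    · rw [c.fam.planes.pr_eq_of_E (Exists.choose_spec (⟨k, rfl⟩ : ∃ l, (P l).E = (P k).E)), (P k).pr_pr]
    · have hne : (P X.2.choose).E ≠ (P k).E := fun e => hX (Subtype.ext (by rw [← X.2.choose_spec, e]))
      rw [Plane.pr_apply (P k), map_add, map_smul, map_smul, (c.fam.planes.cross _ k hne).1,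
        (c.fam.planes.cross _ k hne).2, smul_zero, smul_zero, add_zero]
  refine eq_bot_iff.2 fun v hv => (Submodule.mem_bot _).2 ?_
  have h2 : π v = v := h1 hv.1
  rw [← h2, LinearMap.sum_apply]
  exact Finset.sum_eq_zero fun X _ => LinearMap.mem_ker.1 ((Submodule.mem_iInf _).1 hv.2 _)

/-- The residual fixes every plane pointwise. -/
theorem res_fix_planes [Finite ι] : planeSum P ≤ fixed f (res Q) := by
  refine c.absorb hfix (fun o ho v hv => c.planeSum_invariant hfix (core_le Q ho) hv) fun e he he' r hr => ?_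
  have h1 : f r e - e ∈ planeSum P ⊓ cp P :=
    ⟨sub_mem (c.planeSum_invariant hfix (core_le Q (rN_le_core hr)) he) he, (c.rN_move hr he').2⟩
  rw [c.planeSum_inf] at h1
  exact sub_eq_zero.1 ((Submodule.mem_bot _).1 h1)

end Top

/-- The residual normalizes the group of every plane. -/
theorem Top.res_le_normalizer [Finite ι] (c : Top f T J 𝒜 P Q) (k : ι) :
    res Q ≤ normalizer ((P k).E : Set Γ) := by
  have hfix : res Q ≤ vfix f (fixed f (core T Q)) := by
    by_contra h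
    exact c.false_of_move h
  intro g hg
  have hU : ∀ v, f g ((P k).pr v) = (P k).pr v := fun v =>
    c.res_fix_planes hfix (Submodule.mem_iSup_of_mem k ⟨v, rfl⟩) g hg
  refine Plane.Cent.normalizer (P k) c.fam.faithful
    (Plane.cent_of_fix (c.fam.planes.rigid k) c.fam.faithful ?_ ?_)
  · conv_lhs => rw [← (P k).pr_l, hU, (P k).pr_l]
  · conv_lhs => rw [← (P k).pr_y, hU, (P k).pr_y]

end Cfsg.Agent.PLocal.CStar.Three
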