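import Cfsg.Agent.Lib.PLocal.CStar.Three.Class
import Cfsg.Agent.Lib.PLocal.CStar.Three.Fix

/-!
The group of a plane in an orbit generating with a subgroup that has one maximal subgroup over the Sylow subgroup is
subnormal.
-/

set_option linter.all false
set_option autoImplicit false

namespace Cfsg.Agent.PLocal.CStar.Three

open Subgroup
open Cfsg.Agent.FFNatural (cg mem_cg cg_one cg_cg inv_cg cg_inv card_cg mul_app inv_app app_inv)

universe u v w

variable {Γ : Type u} {V : Type v} [Group Γ] [AddCommGroup V] [Module (ZMod 3) V]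
variable [Finite Γ] [Finite V] [Fact (Nat.Prime 3)]
variable {f : Representation (ZMod 3) Γ V} {T : Sylow 3 Γ} {J : Subgroup Γ} {𝒜 : Set (Subgroup Γ)}
variable {ι : Type w} {P : ι → Plane f}

/-- A transvection of one plane gives one of every plane of the orbit. -/
theorem Planes.transvection_transport (h : Planes f T J P) {k l : ι} {t : Γ} (ht : t ∈ (T : Subgroup Γ))
    (e : cg t (P k).E = (P l).E) {r : Γ} (hr : ∀ v, f r v = v + (P k).β v • (P k).l) :
    ∃ r', ∀ v, f r' v = v + (P l).β v • (P l).l := by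
  obtain ⟨c, hc, hcl⟩ := h.line_map (h.T_norm_J ht) e
  have e' : cg t⁻¹ (P l).E = (P k).E := by rw [← e, cg_inv]
  set d := (P k).β (f t⁻¹ (P l).y)
  have hker : ∀ v, (P k).β (f t⁻¹ v) = (P l).β v * d := fun v => by
    have h1 := h.hyper_map (inv_mem (h.T_norm_J ht)) e' (v := v - (P l).β v • (P l).y) (by simp [(P l).βy])
    rw [map_sub, map_sub, map_smul, map_smul, sub_eq_zero] at h1
    rw [h1, smul_eq_mul]
  have hd : d ≠ 0 := fun e0 => by
    have h1 := hker (f t (P k).y)
    rw [inv_app, (P k).βy, e0, mul_zero] at h1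
    exact one_ne_zero h1
  have hw : ∀ v, f (t * r * t⁻¹) v = v + ((P l).β v * (d * c)) • (P l).l := fun v => by
    rw [mul_app, mul_app, hr, map_add, app_inv, map_smul, hcl, hker, smul_smul, mul_assoc]
  rcases zmod_three_cases (d * c) with e0 | e0 | e0
  · exact absurd e0 (mul_ne_zero hd hc)
  · exact ⟨t * r * t⁻¹, fun v => by rw [hw, e0, mul_one]⟩
  · refine ⟨(t * r * t⁻¹)⁻¹, fun v => ?_⟩
    have h1 := hw (v + (P l).β v • (P l).l)
    rw [e0, map_add ((P l).β), map_smul, (P l).βl, smul_zero, add_zero, mul_neg_one, neg_smul,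
      add_neg_cancel_right] at h1
    conv_lhs => rw [← h1, inv_app]

/-- The group of a plane is subnormal. -/
theorem Fam.subnormal [Finite ι] (h : Fam f T J 𝒜 P)
    (hred : ∀ N : Subgroup Γ, N.Normal → IsPGroup 3 ↥N → N = ⊥) {Q : Subgroup Γ} (hTQ : (T : Subgroup Γ) ≤ Q)
    (huniq : ∀ M M' : Subgroup ↥Q, IsCoatom M → (T : Subgroup Γ).subgroupOf Q ≤ M → IsCoatom M' →
      (T : Subgroup Γ).subgroupOf Q ≤ M' → M = M')
    (hgen : (⨆ k, (P k).E) ⊔ Q = ⊤) (htrans : ∀ k l, ∃ t ∈ (T : Subgroup Γ), cg t (P k).E = (P l).E) (k : ι) :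
    (P k).E.IsSubnormal := by
  by_cases hr : ∃ r, ∀ v, f r v = v + (P k).β v • (P k).l
  · obtain ⟨r, hr⟩ := hr
    set N := ⨆ g : Γ, cg g (P k).E
    have hN : N.Normal := by
      refine normalizer_eq_top_iff.1 (top_unique fun g _ => ?_)
      refine mem_normalizer_iff_map_conj_eq.2 (Subgroup.eq_of_le_of_card_ge ?_ (card_cg g _).ge)
      rw [Subgroup.map_iSup]
      refine iSup_le fun x => ?_
      show cg g (cg x (P k).E) ≤ _
      rw [cg_cg]
      exact le_iSup (fun g => cg g (P k).E) (g * x)
    have hle : (P k).E ≤ N := by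
      refine le_trans ?_ (le_iSup (fun g => cg g (P k).E) 1)
      rw [cg_one]
    exact IsSubnormal.step _ N hle (Normal.isSubnormal hN) ((normal_subgroupOf_iff_le_normalizer hle).2
      (iSup_le fun g => Plane.conj_normalizes (h.planes.rigid k) h.faithful hr g))
  · have c : Top f T J 𝒜 P Q := ⟨h, hred, hTQ, huniq, hgen, fun l g hg => hr (by
      obtain ⟨t, ht, e⟩ := htrans l k
      exact h.planes.transvection_transport ht e hg), ⟨k⟩⟩
    set L := ⨆ m, (P m).E
    have hEL : ∀ m, L ≤ normalizer ((P m).E : Set Γ) := fun m => iSup_le fun n => by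
      by_cases e : (P m).E = (P n).E
      · exact e ▸ le_normalizer
      · exact fun x hx => centralizer_le_normalizer _ fun y hy => h.planes.comm_E m n e y hy x hx
    have hn : ∀ x ∈ (T : Subgroup Γ), x ∈ normalizer (L : Set Γ) := fun x hx =>
      mem_normalizer_iff_map_conj_eq.2 (Subgroup.eq_of_le_of_card_ge (by
        rw [Subgroup.map_iSup]
        refine iSup_le fun m => ?_
        obtain ⟨n, hn⟩ := h.planes.perm x hx m
        exact hn.le.trans (le_iSup (fun m => (P m).E) n)) (card_cg x _).ge)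
    have hL : L.Normal := by
      refine normalizer_eq_top_iff.1 (top_unique (hgen.ge.trans (sup_le le_normalizer ?_)))
      refine (le_res_sup hTQ).trans (sup_le (fun g hg => ?_) hn)
      refine mem_normalizer_iff_map_conj_eq.2 (Subgroup.eq_of_le_of_card_ge ?_ (card_cg g _).ge)
      rw [Subgroup.map_iSup]
      refine iSup_le fun m => ?_
      exact (mem_normalizer_iff_map_conj_eq.1 (c.res_le_normalizer m hg)).le.trans (le_iSup (fun m => (P m).E) m)
    have hle : (P k).E ≤ L := le_iSup (fun m => (P m).E) k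
    exact IsSubnormal.step _ L hle (Normal.isSubnormal hL) ((normal_subgroupOf_iff_le_normalizer hle).2 (hEL k))

end Cfsg.Agent.PLocal.CStar.Three
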