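import Cfsg.Agent.Lib.PLocal.CStar.Three.Plane

/-!
Planes adapted to a `3`-group, in a family permuted by a Sylow subgroup: planes of commuting groups lie in the
complements of one another.
-/

set_option linter.all false
set_option autoImplicit false

namespace Cfsg.Agent.PLocal.CStar.Three

open Subgroup
open Cfsg.Agent.FFNatural (cg mul_app inv_app app_inv)

universe u v w

variable {Γ : Type u} {V : Type v} [Group Γ] [AddCommGroup V] [Module (ZMod 3) V]
variable {f : Representation (ZMod 3) Γ V}

namespace Plane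

/-- The plane is adapted to `J`. -/
structure Adapt (P : Plane f) (J : Subgroup Γ) : Prop where
  cent : ∀ j ∈ J, P.Cent j
  fixl : ∀ j ∈ J, f j P.l = P.l
  betaJ : ∀ j ∈ J, ∀ v, P.β (f j v) = P.β v
  moves : ∃ j ∈ J, f j P.y ≠ P.y

variable {P : Plane f} {J : Subgroup Γ} (h : P.Adapt J)
include h

theorem Adapt.mem_stab {j : Γ} (hj : j ∈ J) : j ∈ P.Stab :=
  ⟨⟨1, by rw [h.fixl j hj, one_smul]⟩, fun v hv => by rw [h.betaJ j hj, hv]⟩

theorem Adapt.pr_app {j : Γ} (hj : j ∈ J) : f j P.y = P.α (f j P.y) • P.l + P.y := by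
  have h1 := h.cent j hj P.y
  rw [P.pr_y, P.pr_apply, h.betaJ j hj, P.βy, one_smul] at h1
  exact h1.symm

theorem Adapt.α_app {j : Γ} (hj : j ∈ J) (v : V) :
    P.α (f j v) = P.α v + P.β v * P.α (f j P.y) := by
  conv_lhs => rw [← P.α_pr, h.cent j hj, P.pr_apply, map_add, map_smul, map_smul, h.fixl j hj]
  simp [P.αl]

theorem Adapt.beta_zero {j : Γ} (hj : j ∈ J) (hne : f j P.y ≠ P.y) {v : V} (hv : f j v = v) : P.β v = 0 := by
  have h1 := h.α_app hj v
  rw [hv, left_eq_add] at h1
  refine (mul_eq_zero.1 h1).resolve_right fun e => hne ?_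
  rw [h.pr_app hj, e, zero_smul, zero_add]

end Plane

/-- The flag-preserving data of two planes whose groups commute. -/
theorem Plane.pr_comm {P Q : Plane f} {e : Γ} (he : e ∈ P.E) (he' : ∀ v, f e v = v + P.pr v)
    {x : Γ} (hc : e * x = x * e) : P.Cent x := fun v => by
  have h1 : f e (f x v) = f x (f e v) := by rw [← mul_app, hc, mul_app]
  rw [he', he', map_add] at h1
  exact add_left_cancel h1

theorem zmod_shift : ∀ a b : ZMod 3, b + a = a + -b → b = 0 := by decide

theorem zmod_idem : ∀ a : ZMod 3, a = a * a → a = 0 ∨ a = 1 := by decide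

theorem zmod_sq : ∀ c : ZMod 3, c * c = 1 + 1 → False := by decide

variable {ι : Type w}

/-- A family of adapted planes permuted by a Sylow subgroup. -/
structure Planes (f : Representation (ZMod 3) Γ V) (T : Sylow 3 Γ) (J : Subgroup Γ) (P : ι → Plane f) : Prop where
  faithful : ∀ g, f g = 1 → g = 1
  J_le : J ≤ (T : Subgroup Γ)
  weak : ∀ g : Γ, cg g J ≤ (T : Subgroup Γ) → cg g J = J
  adapt : ∀ k, (P k).Adapt J
  perm : ∀ t ∈ (T : Subgroup Γ), ∀ k, ∃ m, cg t (P k).E = (P m).E
  comm_E : ∀ k m, (P k).E ≠ (P m).E → ∀ x ∈ (P k).E, ∀ y ∈ (P m).E, x * y = y * x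

variable {T : Sylow 3 Γ} {J : Subgroup Γ} {P : ι → Plane f}

namespace Planes

variable (h : Planes f T J P)
include h

/-- The projection is determined by the group. -/
theorem pr_eq_of_E {P Q : Plane f} (e : P.E = Q.E) (v : V) : P.pr v = Q.pr v := by
  obtain ⟨x, hx, hx'⟩ := P.inv
  have hne : x ≠ 1 := fun e1 => by
    have := hx' P.l
    rw [e1, map_one, Module.End.one_apply, ← P.pr_apply, P.pr_l, left_eq_add] at this
    exact P.l_ne this
  rcases Q.quat x (e ▸ hx) with h1 | h1 | h1
  · exact absurd h1 hne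
  · exact add_left_cancel ((hx' v).symm.trans (h1 v))
  · exfalso
    have h2 := h1 Q.l
    simp only [← Plane.pr_apply] at h2 hx'
    rw [Q.pr_l, hx', hx', map_add, P.pr_pr] at h2
    have h3 : Q.l = (0 : V) := by linear_combination (norm := abel) three (P.pr Q.l) - h2
    exact Q.l_ne h3

/-- An element mapping one group to another carries the projection along. -/
theorem pr_map {g : Γ} {k m : ι} (e : cg g (P k).E = (P m).E) (v : V) :
    (P m).pr (f g v) = f g ((P k).pr v) := by
  obtain ⟨x, hx, hx'⟩ := (P k).inv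
  simp only [← Plane.pr_apply] at hx'
  have hne : g * x * g⁻¹ ≠ 1 := fun e1 => by
    have e2 : x = 1 := by simpa using e1
    have := hx' (P k).l
    rw [e2, map_one, Module.End.one_apply, (P k).pr_l, left_eq_add] at this
    exact (P k).l_ne this
  have hop : ∀ w, f (g * x * g⁻¹) w = w + f g ((P k).pr (f g⁻¹ w)) := fun w => by
    rw [mul_app, mul_app, hx', map_add, app_inv]
  have hmem : g * x * g⁻¹ ∈ (P m).E := e.le ⟨x, hx, rfl⟩
  rcases (P m).quat _ hmem with h1 | h1 | h1
  · exact absurd h1 hne
  · have h2 := h1 (f g v)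
    rw [← Plane.pr_apply, hop, inv_app] at h2
    exact (add_left_cancel h2).symm
  · exfalso
    have h2 := h1 (P m).l
    rw [← Plane.pr_apply, (P m).pr_l, hop, hop, map_add, map_add, inv_app, (P k).pr_pr, map_add] at h2
    have h3 : (P m).l = (0 : V) := by
      linear_combination (norm := abel) three (f g ((P k).pr (f g⁻¹ (P m).l))) - h2
    exact (P m).l_ne h3

theorem cross_cent (k m : ι) (hne : (P k).E ≠ (P m).E) {x : Γ} (hx : x ∈ (P m).E) : (P k).Cent x := by
  obtain ⟨e, he, he'⟩ := (P k).inv
  exact Plane.pr_comm (Q := P m) he he' (h.comm_E k m hne e he x hx)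

/-- The plane of a commuting group lies in the complement. -/
theorem cross (k m : ι) (hne : (P k).E ≠ (P m).E) :
    (P k).pr (P m).l = 0 ∧ (P k).pr (P m).y = 0 := by
  obtain ⟨i, hi, hil, hiy⟩ := (P m).rot
  obtain ⟨s, hs, hsl, hsy⟩ := (P m).sw
  have hci := h.cross_cent k m hne hi
  have hcs := h.cross_cent k m hne hs
  obtain ⟨e, he, he'⟩ := (P k).inv
  simp only [← Plane.pr_apply] at he'
  -- the projection of the other plane lies in it
  have hin : ∀ v, (P m).pr ((P k).pr ((P m).pr v)) = (P k).pr ((P m).pr v) := fun v => by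
    have h1 := (Plane.pr_comm (Q := P k) (P := P m) (e := (P m).inv.choose) (P m).inv.choose_spec.1
      (P m).inv.choose_spec.2 (x := e) (h.comm_E m k (Ne.symm hne) _ (P m).inv.choose_spec.1 e he)) ((P m).pr v)
    rw [(P m).pr_pr, he', map_add, (P m).pr_pr] at h1
    exact add_left_cancel h1
  have hl := hin (P m).l
  rw [(P m).pr_l, Plane.pr_apply] at hl
  set a := (P m).α ((P k).pr (P m).l)
  set b := (P m).β ((P k).pr (P m).l)
  have hy : (P k).pr (P m).y = a • (P m).y - b • (P m).l := by
    rw [← hil, hci, ← hl, map_add, map_smul, map_smul, hil, hiy, smul_neg, sub_eq_add_neg]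
  have hsl' := hcs (P m).l
  rw [hsl, map_add, hy, ← hl, map_add, map_smul, map_smul, hsl, hsy] at hsl'
  have hb : b = 0 := by
    have h2 := congrArg (P m).β hsl'
    simp [(P m).βl, (P m).βy, mul_comm] at h2
    exact zmod_shift _ _ h2
  rw [hb, zero_smul, add_zero] at hl
  rw [hb, zero_smul, sub_zero] at hy
  have ha : a = 0 := by
    have ha2 : a = 0 ∨ a = 1 := by
      have h2 := congrArg (P m).α (congrArg (P k).pr hl.symm)
      rw [(P k).pr_pr, map_smul, ← hl] at h2
      simp [(P m).αl] at h2
      exact zmod_idem _ h2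
    refine ha2.resolve_right fun e1 => ?_
    rw [e1, one_smul] at hl hy
    -- both planes coincide, so the groups act by scalars
    obtain ⟨i', hi', hil', hiy'⟩ := (P k).rot
    have hc' := h.cross_cent m k (Ne.symm hne) hi'
    have hfl : f i' (P m).l = (P m).α (f i' (P m).l) • (P m).l + (P m).β (f i' (P m).l) • (P m).y := by
      rw [← Plane.pr_apply, hc', (P m).pr_l]
    set c := (P m).α (f i' (P m).l)
    set d := (P m).β (f i' (P m).l)
    have hfy : f i' (P m).y = c • (P m).y - d • (P m).l := by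
      conv_lhs => rw [← hil, ← mul_app, h.comm_E k m hne i' hi' i hi, mul_app, hfl]
      rw [map_add, map_smul, map_smul, hil, hiy, smul_neg, sub_eq_add_neg]
    have hfs : f i' (f s (P m).l) = f s (f i' (P m).l) := by
      rw [← mul_app, h.comm_E k m hne i' hi' s hs, mul_app]
    rw [hsl, map_add, hfy, hfl, map_add, map_smul, map_smul, hsl, hsy] at hfs
    have hd : d = 0 := by
      have h2 := congrArg (P m).β hfs
      simp [(P m).βl, (P m).βy] at h2
      exact zmod_shift _ _ h2
    rw [hd, zero_smul, add_zero] at hfl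
    rw [hd, zero_smul, sub_zero] at hfy
    -- the element squares to the central involution
    have hsq : f i' (f i' (P m).l) = c • c • (P m).l := by rw [hfl, map_smul, hfl]
    rcases (P k).quat i' hi' with h1 | h1 | h1
    · rw [h1, map_one, Module.End.one_apply] at hil'
      have := congrArg (P k).β hil'
      rw [(P k).βl, (P k).βy] at this
      exact zero_ne_one this
    · rw [h1, ← Plane.pr_apply, (P k).pr_l] at hil'
      have := congrArg (P k).β hil'
      simp [(P k).βl, (P k).βy] at this
    · rw [h1, ← Plane.pr_apply, ← hl] at hsq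
      have := congrArg (P m).α hsq
      simp [(P m).αl] at this
      exact zmod_sq c this.symm
  rw [ha, zero_smul] at hl hy
  exact ⟨hl.symm, hy⟩

/-- An element of `T` fixing the line of a plane normalizes its group. -/
theorem cent_of_line {t : Γ} (ht : t ∈ (T : Subgroup Γ)) (k : ι) (hl : ∃ c : ZMod 3, f t (P k).l = c • (P k).l) :
    (P k).Cent t := by
  obtain ⟨m, hm⟩ := h.perm t ht k
  obtain ⟨c, hc⟩ := hl
  by_cases e : (P k).E = (P m).E
  · intro v
    rw [h.pr_eq_of_E e]
    exact h.pr_map hm v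
  · exfalso
    have h1 := h.pr_map hm (P k).l
    rw [(P k).pr_l, hc, map_smul, (h.cross m k (Ne.symm e)).1, smul_zero] at h1
    exact (P k).l_ne (by rw [← inv_app (f := f) t (P k).l, hc, ← h1, map_zero])

end Planes

end Cfsg.Agent.PLocal.CStar.Three
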