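import Cfsg.Agent.Lib.PLocal.CStar.Three.Rigid

/-!
When the transvection of a rigid plane lies in the group, every conjugate of the group of the plane normalizes it:
two conjugate transvections commute or generate the group of a plane.
-/

set_option linter.all false
set_option autoImplicit false

namespace Cfsg.Agent.PLocal.CStar.Three

open Subgroup
open Cfsg.Agent.FFNatural (cg mem_cg mul_app inv_app app_inv)

universe u v

variable {Γ : Type u} {V : Type v} [Group Γ] [AddCommGroup V] [Module (ZMod 3) V]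
variable {f : Representation (ZMod 3) Γ V}

theorem zmod_cases : ∀ a : ZMod 3, a = 0 ∨ a = 1 ∨ a = -1 := by decide

namespace Plane

variable (Q : Plane f)

/-- The group of the plane is transitive on its nonzero vectors. -/
theorem exists_to (p q : ZMod 3) (h : p ≠ 0 ∨ q ≠ 0) : ∃ x ∈ Q.E, f x Q.l = p • Q.l + q • Q.y := by
  obtain ⟨i, hi, hil, hiy⟩ := Q.rot
  obtain ⟨s, hs, hsl, hsy⟩ := Q.sw
  rcases zmod_cases p with rfl | rfl | rfl <;> rcases zmod_cases q with rfl | rfl | rfl
  · simp at h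
  · exact ⟨i, hi, by rw [hil]; simp⟩
  · exact ⟨i * (i * i), mul_mem hi (mul_mem hi hi), by simp [mul_app, hil, hiy, map_neg]⟩
  · exact ⟨1, one_mem _, by simp⟩
  · exact ⟨s, hs, by rw [hsl]; simp⟩
  · exact ⟨i * (i * (i * s)), mul_mem hi (mul_mem hi (mul_mem hi hs)), by
      simp [mul_app, hsl, hil, hiy, map_neg, map_add]; abel⟩
  · exact ⟨i * i, mul_mem hi hi, by simp [mul_app, hil, hiy]⟩
  · exact ⟨i * s, mul_mem hi hs, by simp [mul_app, hsl, hil, hiy, map_add]; abel⟩
  · exact ⟨i * (i * s), mul_mem hi (mul_mem hi hs), by simp [mul_app, hsl, hil, hiy, map_neg, map_add]⟩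

variable {Q} (hQ : Q.Rigid) (hf : ∀ g, f g = 1 → g = 1) {r : Γ} (hr : ∀ v, f r v = v + Q.β v • Q.l)
include hQ hf hr

omit hQ hf in
theorem conj_app (g : Γ) (v : V) : f (g * r * g⁻¹) v = v + Q.β (f g⁻¹ v) • f g Q.l := by
  rw [mul_app, mul_app, hr, map_add, app_inv, map_smul]

omit hQ hf in
theorem inv_r (v : V) : f r⁻¹ v = v - Q.β v • Q.l := by
  have h : f r (v - Q.β v • Q.l) = v := by
    rw [map_sub, map_smul, hr, hr, Q.βl, zero_smul, add_zero]; abel
  conv_lhs => rw [← h, inv_app]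

theorem pairing_zero {g : Γ} (hb : Q.β (f g Q.l) = 0) : Q.β (f g⁻¹ Q.l) = 0 := by
  by_contra ha
  set l' := f g Q.l with hl'
  set a := Q.β (f g⁻¹ Q.l) with ha'
  have hwinv : ∀ v, f (g * r * g⁻¹)⁻¹ v = v - Q.β (f g⁻¹ v) • l' := fun v => by
    rw [show (g * r * g⁻¹)⁻¹ = g * r⁻¹ * g⁻¹ by group, mul_app, mul_app, inv_r hr, map_sub, app_inv,
      map_smul]
  set t := (g * r * g⁻¹) * r * (g * r * g⁻¹)⁻¹ * r⁻¹ with ht
  have hl0 : Q.β (f g⁻¹ l') = 0 := by rw [hl', inv_app, Q.βl]
  have htv : ∀ v, f t v = v + (a * Q.β v) • l' := fun v => by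
    set p := Q.β v
    set q := Q.β (f g⁻¹ v)
    have e1 : f r⁻¹ v = v - p • Q.l := inv_r hr v
    have e2 : f (g * r * g⁻¹)⁻¹ (v - p • Q.l) = v - p • Q.l - (q - p * a) • l' := by
      rw [hwinv]; congr 2
      rw [map_sub, map_smul, map_sub, map_smul, smul_eq_mul]
    have e3 : f r (v - p • Q.l - (q - p * a) • l') = v - (q - p * a) • l' := by
      rw [hr]
      simp only [map_sub, map_smul, Q.βl, hb, smul_eq_mul, mul_zero, sub_zero]
      abel
    have e4 : f (g * r * g⁻¹) (v - (q - p * a) • l') = v + (a * p) • l' := by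
      rw [conj_app hr]
      simp only [map_sub, map_smul, hl0, smul_eq_mul, mul_zero, sub_zero]
      show v - (q - p * a) • l' + q • l' = _
      rw [sub_smul, mul_comm a p]; abel
    rw [ht, mul_app, mul_app, mul_app, e1, e2, e3, e4]
  have hts : t ∈ Q.Stab := ⟨⟨1, by rw [htv, Q.βl, mul_zero, zero_smul, add_zero, one_smul]⟩, fun v hv => by
    rw [htv, hv, mul_zero, zero_smul, add_zero, hv]⟩
  have h1 := hQ t hts Q.y
  rw [htv, Q.pr_y, htv, Q.βy, mul_one, map_add, map_smul, Q.pr_y, add_right_inj] at h1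
  have h2 : Q.pr l' = l' := smul_right_injective V ha h1
  rw [pr_apply, hb, zero_smul, add_zero] at h2
  have h3 := hl0
  rw [← h2, map_smul, map_smul, smul_eq_mul, mul_eq_zero] at h3
  rcases h3 with h3 | h3
  · rw [h3, zero_smul] at h2
    exact Q.l_ne (by rw [← inv_app (f := f) g Q.l, ← hl', ← h2, map_zero])
  · exact ha h3

/-- A conjugate transvection belongs to the plane or is orthogonal to it. -/
theorem dichotomy (g : Γ) :
    (Q.pr (f g Q.l) = f g Q.l ∧ ∀ v, Q.β (f g⁻¹ (Q.pr v)) = Q.β (f g⁻¹ v)) ∨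
      (Q.pr (f g Q.l) = 0 ∧ ∀ v, Q.β (f g⁻¹ (Q.pr v)) = 0) := by
  set l' := f g Q.l with hl'
  by_cases hb : Q.β l' = 0
  · have ha := pairing_zero hQ hf hr hb
    set w := g * r * g⁻¹
    have hws : w ∈ Q.Stab := ⟨⟨1, by rw [conj_app hr, ha, zero_smul, add_zero, one_smul]⟩, fun v hv => by
      rw [conj_app hr, map_add, map_smul, hv, hb, smul_zero, add_zero]⟩
    have hc : ∀ v, Q.β (f g⁻¹ v) • Q.pr l' = Q.β (f g⁻¹ (Q.pr v)) • l' := fun v => by
      have h1 := hQ w hws v
      rwa [conj_app hr, conj_app hr, map_add, map_smul, add_right_inj] at h1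
    have h1 := hc (f g Q.y)
    rw [inv_app, Q.βy, one_smul] at h1
    set c := Q.β (f g⁻¹ (Q.pr (f g Q.y)))
    have hne : l' ≠ 0 := fun e => Q.l_ne (by rw [← inv_app (f := f) g Q.l, ← hl', e, map_zero])
    have hcc : c = c * c := smul_left_injective (ZMod 3) hne (show c • l' = (c * c) • l' by
      rw [← h1, mul_smul]
      conv_lhs => rw [← Q.pr_pr, h1, map_smul, h1])
    rcases zmod_idem c hcc with e | e
    · right
      rw [e, zero_smul] at h1
      refine ⟨h1, fun v => ?_⟩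
      have h2 := hc v
      rw [h1, smul_zero] at h2
      exact (smul_eq_zero.1 h2.symm).resolve_right hne
    · left
      rw [e, one_smul] at h1
      refine ⟨h1, fun v => ?_⟩
      have h2 := hc v
      rw [h1] at h2
      exact (smul_left_injective (ZMod 3) hne h2).symm
  · left
    set b := Q.β l' with hb'
    have ha : Q.β (f g⁻¹ Q.l) ≠ 0 := fun e => hb (by
      have h1 := pairing_zero hQ hf hr (g := g⁻¹) e
      rwa [inv_inv] at h1)
    set a := Q.β (f g⁻¹ Q.l) with ha'
    have hsq : ∀ c : ZMod 3, c ≠ 0 → c * c = 1 := by decide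
    have haa := hsq a ha
    have hbb := hsq b hb
    obtain ⟨w, hw⟩ : ∃ w : Γ, ∀ v, f w v = v + (-(a * b) * Q.β (f g⁻¹ v)) • l' := by
      have hab : -(a * b) = 1 ∨ -(a * b) = -1 := by
        revert ha hb; generalize a = a'; generalize b = b'; revert a' b'; decide
      rcases hab with e | e
      · exact ⟨g * r * g⁻¹, fun v => by rw [conj_app hr, e, one_mul]⟩
      · refine ⟨g * r⁻¹ * g⁻¹, fun v => ?_⟩
        rw [mul_app, mul_app, inv_r hr, map_sub, app_inv, map_smul, e, neg_one_mul, neg_smul, sub_eq_add_neg]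
    have hl0 : Q.β (f g⁻¹ l') = 0 := by rw [hl', inv_app, Q.βl]
    set N := r * w with hN
    clear_value N
    have hNv : ∀ v, f N v = v + (-(a * b) * Q.β (f g⁻¹ v)) • l' + (Q.β v - a * Q.β (f g⁻¹ v)) • Q.l := fun v => by
      rw [hN, mul_app, hw, hr]
      congr 2
      rw [map_add, map_smul, smul_eq_mul, ← hb']
      linear_combination (-a * Q.β (f g⁻¹ v)) * hbb
    have hNp : ∀ v, Q.β (f N v) = Q.β v - a * Q.β (f g⁻¹ v) := fun v => by
      rw [hNv]
      simp only [map_add, map_smul, Q.βl, smul_eq_mul, ← hb']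
      linear_combination (-a * Q.β (f g⁻¹ v)) * hbb
    have hNq : ∀ v, Q.β (f g⁻¹ (f N v)) = a * Q.β v := fun v => by
      rw [hNv]
      simp only [map_add, map_smul, hl0, smul_eq_mul, ← ha']
      linear_combination (-Q.β (f g⁻¹ v)) * haa
    set s := N * (N * N) with hs
    have hsv : ∀ v, f s v = v + (a * Q.β (f g⁻¹ v)) • Q.l + (b * Q.β v) • l' := fun v => by
      set p := Q.β v with hp
      set q := Q.β (f g⁻¹ v) with hq
      rw [hs, mul_app, mul_app, hNv (f N (f N v)), hNp (f N v), hNq (f N v), hNv (f N v), hNp v, hNq v, hNv v,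
        ← hp, ← hq]
      have c1 : -(a * b) * q + -(a * b) * (a * p) + -(a * b) * (a * (p - a * q)) = b * p := by
        linear_combination (norm := ring_nf) (-b * p - b * (p - a * q)) * haa
        have h3 : (3 : ZMod 3) = 0 := by decide
        linear_combination (-b * p) * h3
      have c2 : (p - a * q) + (p - a * q - a * (a * p)) + (p - a * q - a * (a * p) - a * (a * (p - a * q))) = a * q := by
        linear_combination (norm := ring_nf) (-2 * p - (p - a * q)) * haa
        have h3 : (3 : ZMod 3) = 0 := by decide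
        linear_combination (-a * q) * h3
      rw [← congrArg (· • l') c1, ← congrArg (· • Q.l) c2]
      simp only [add_smul]
      abel
    have h21 : (1 : ZMod 3) + 1 = -1 := by decide
    have hss : s ∈ Q.Stab := ⟨⟨-1, by
      rw [hsv, Q.βl, mul_zero, zero_smul, add_zero, ← ha', haa, ← h21, add_smul, one_smul]⟩, fun v hv => by
      rw [hsv, hv, mul_zero, zero_smul, add_zero, map_add, map_smul, hv, Q.βl, smul_zero, add_zero]⟩
    have hc : ∀ v, (a * Q.β (f g⁻¹ v)) • Q.l + (b * Q.β v) • Q.pr l' =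
        (a * Q.β (f g⁻¹ (Q.pr v))) • Q.l + (b * Q.β v) • l' := fun v => by
      have h1 := hQ s hss v
      rwa [hsv, hsv, map_add, map_add, map_smul, map_smul, Q.pr_l, Q.β_pr, add_assoc, add_assoc, add_right_inj]
        at h1
    have hl : Q.pr l' = l' := by
      have h1 := hc Q.y
      rw [Q.pr_y, Q.βy, mul_one, add_right_inj] at h1
      exact smul_right_injective V hb h1
    refine ⟨hl, fun v => ?_⟩
    have h1 := hc v
    rw [hl, add_left_inj] at h1
    exact (mul_left_cancel₀ ha (smul_left_injective (ZMod 3) Q.l_ne h1)).symm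

/-- Every conjugate of the group of the plane normalizes it. -/
theorem conj_normalizes [Finite Γ] (g : Γ) : cg g Q.E ≤ normalizer (Q.E : Set Γ) := by
  by_cases hin : ∃ x ∈ Q.E, Q.pr (f (g * x) Q.l) = f (g * x) Q.l ∧
      ∀ v, Q.β (f (g * x)⁻¹ (Q.pr v)) = Q.β (f (g * x)⁻¹ v)
  · obtain ⟨x₀, hx₀, hl, hk⟩ := hin
    set g₁ := g * x₀ with hg₁
    set l' := f g₁ Q.l with hl'
    have hne : Q.α l' ≠ 0 ∨ Q.β l' ≠ 0 := by
      by_contra hno
      push Not at hno
      rw [pr_apply, hno.1, hno.2, zero_smul, zero_smul, add_zero] at hl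
      exact Q.l_ne (by rw [← inv_app (f := f) g₁ Q.l, ← hl', ← hl, map_zero])
    obtain ⟨x, hx, hxl⟩ := Q.exists_to _ _ hne
    rw [← pr_apply, hl] at hxl
    set h := x⁻¹ * g₁ with hh
    have hγ : ∀ u, Q.pr u = u → Q.β (f g₁⁻¹ (f x u)) = Q.β u * Q.β (f g₁⁻¹ (f x Q.y)) := fun u hu => by
      conv_lhs => rw [← hu, pr_apply]
      simp only [map_add, map_smul, hxl, smul_eq_mul]
      rw [hl', inv_app, Q.βl, mul_zero, zero_add]
    have hy0 : Q.β (f g₁⁻¹ (f x Q.y)) ≠ 0 := fun e => by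
      have h1 := hγ (f x⁻¹ (Q.pr (f g₁ Q.y))) (by rw [Q.cent_of_mem (inv_mem hx), Q.pr_pr])
      rw [e, mul_zero, app_inv, hk, inv_app, Q.βy] at h1
      exact one_ne_zero h1
    have hhs : h ∈ Q.Stab := ⟨⟨1, by rw [hh, mul_app, ← hl', ← hxl, inv_app, one_smul]⟩, fun v hv => by
      have h1 := hγ (f x⁻¹ (Q.pr (f g₁ v))) (by rw [Q.cent_of_mem (inv_mem hx), Q.pr_pr])
      rw [app_inv, hk, inv_app, hv, ← Q.cent_of_mem (inv_mem hx), Q.β_pr, ← mul_app] at h1
      exact (mul_eq_zero.1 h1.symm).resolve_right hy0⟩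
    have hc : Q.Cent g := by
      have h1 := ((Q.cent_of_mem hx).mul (hQ h hhs)).mul (Q.cent_of_mem hx₀).inv
      rwa [hh, mul_inv_cancel_left, hg₁, mul_inv_cancel_right] at h1
    rintro _ ⟨y, hy, rfl⟩
    exact Subgroup.le_normalizer (hc.conj_mem Q hf hy)
  · push Not at hin
    have hall : ∀ x ∈ Q.E, Q.pr (f (g * x) Q.l) = 0 ∧ ∀ v, Q.β (f (g * x)⁻¹ (Q.pr v)) = 0 := fun x hx => by
      rcases dichotomy hQ hf hr (g * x) with ⟨h1, h2⟩ | h
      · obtain ⟨v, hv⟩ := hin x hx h1
        exact absurd (h2 v) hv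
      · exact h
    obtain ⟨i, hi, hil, hiy⟩ := Q.rot
    have h0 := hall 1 (one_mem _)
    rw [mul_one] at h0
    have h1 := hall i hi
    rw [mul_app, hil] at h1
    have hprinv : ∀ v, Q.pr (f g⁻¹ (Q.pr v)) = 0 := fun v => by
      have e1 := h1.2 v
      rw [mul_inv_rev, mul_app] at e1
      set u := f g⁻¹ (Q.pr v)
      have hβ : Q.β u = 0 := h0.2 v
      have hα : Q.β (f i⁻¹ u) = -Q.α u := by
        rw [← Q.β_pr, Q.cent_of_mem (inv_mem hi), pr_apply, hβ, zero_smul, add_zero, map_smul, map_smul]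
        have e2 : f i⁻¹ Q.l = -Q.y := by
          conv_lhs => rw [← neg_neg Q.l, ← hiy, map_neg, inv_app]
        rw [e2, map_neg, Q.βy, smul_eq_mul, mul_neg_one]
      rw [hα, neg_eq_zero] at e1
      exact Q.pr_eq_zero.2 ⟨e1, hβ⟩
    rintro _ ⟨y, hy, rfl⟩
    refine Cent.normalizer Q hf fun v => ?_
    show Q.pr (f (g * y * g⁻¹) v) = f (g * y * g⁻¹) (Q.pr v)
    have hz := hprinv v
    rw [mul_app, mul_app, mul_app, mul_app, Q.act hy (f g⁻¹ (Q.pr v)), hz, map_zero, sub_zero, add_zero, app_inv,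
      Q.act hy (f g⁻¹ v)]
    have hu : ∀ u, Q.pr u = u → Q.pr (f g u) = 0 := fun u hu => by
      rw [← hu, pr_apply Q u, map_add, map_smul, map_smul, map_add, map_smul, map_smul, h0.1, h1.1,
        smul_zero, smul_zero, add_zero]
    rw [map_add (f g), map_sub (f g), app_inv, map_add, map_sub, hu _ (Q.pr_pr _),
      hu (f y _) (by rw [Q.cent_of_mem hy, Q.pr_pr]), sub_zero, add_zero]

end Plane

end Cfsg.Agent.PLocal.CStar.Three
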