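import Cfsg.Agent.Lib.PLocal.CStar.Three.Rigid

/-!
A family of planes with offenders: minimal members fix all planes when no transvection of a plane lies in the group;
the largest `3`-subgroup normal in a subgroup with one maximal subgroup over the Sylow subgroup contains none.
-/

set_option linter.all false
set_option autoImplicit false

namespace Cfsg.Agent.PLocal.CStar.Three

open Subgroup
open Cfsg.Lib.Offender (fixed mem_fixed)
open Cfsg.Agent.FFNatural (cg mem_cg cg_inv inv_cg cg_cg cg_one cg_mono card_cg fixed_anti mul_app inv_app app_inv)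

universe u v w

variable {Γ : Type u} {V : Type v} [Group Γ] [AddCommGroup V] [Module (ZMod 3) V]
variable {f : Representation (ZMod 3) Γ V}

theorem zmod_three_cases : ∀ a : ZMod 3, a = 0 ∨ a = 1 ∨ a = -1 := by decide

/-- The weight of a subgroup. -/
noncomputable def wt (f : Representation (ZMod 3) Γ V) (A : Subgroup Γ) : ℕ :=
  Nat.card ↥A * Nat.card ↥(fixed f A)

theorem fixed_map {g : Γ} {X : Subgroup Γ} (hg : g ∈ normalizer (X : Set Γ)) {v : V} (hv : v ∈ fixed f X) :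
    f g v ∈ fixed f X := by
  intro x hx
  have h := hv (g⁻¹ * x * g) ((mem_normalizer_iff''.1 hg x).1 hx)
  rw [mul_app, mul_app] at h
  conv_rhs => rw [← h, app_inv]

variable {ι : Type w} {T : Sylow 3 Γ} {J : Subgroup Γ} {𝒜 : Set (Subgroup Γ)} {P : ι → Plane f}

/-- The hypotheses. -/
structure Fam (f : Representation (ZMod 3) Γ V) (T : Sylow 3 Γ) (J : Subgroup Γ) (𝒜 : Set (Subgroup Γ))
    (P : ι → Plane f) : Prop where
  planes : Planes f T J P
  conj : ∀ A ∈ 𝒜, ∀ g : Γ, cg g A ∈ 𝒜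
  comm : ∀ A ∈ 𝒜, ∀ a ∈ A, ∀ b ∈ A, a * b = b * a
  exp : ∀ A ∈ 𝒜, ∀ a ∈ A, a ^ 3 = 1
  mem_J : ∀ A ∈ 𝒜, A ≤ (T : Subgroup Γ) → A ≤ J
  bound : ∀ A ∈ 𝒜, Nat.card V ≤ wt f A
  sub : ∀ A ∈ 𝒜, ∀ B ≤ A, wt f B ≤ wt f A
  sub_eq : ∀ A ∈ 𝒜, ∀ B ≤ A, wt f B = wt f A → B ∈ 𝒜
  full : ∀ k, ∃ A ∈ 𝒜, A ≤ (T : Subgroup Γ) ∧ ∃ a ∈ A, f a (P k).y ≠ (P k).y

/-- The elements fixing every plane pointwise and centralizing every involution. -/
def fixers (P : ι → Plane f) : Subgroup Γ where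
  carrier := {g | ∀ k, f g (P k).l = (P k).l ∧ f g (P k).y = (P k).y ∧ (P k).Cent g}
  one_mem' k := ⟨by simp, by simp, Plane.Cent.one _⟩
  mul_mem' {a b} ha hb k := ⟨by rw [mul_app, (hb k).1, (ha k).1], by rw [mul_app, (hb k).2.1, (ha k).2.1],
    (ha k).2.2.mul (hb k).2.2⟩
  inv_mem' {a} ha k := ⟨by conv_lhs => rw [← (ha k).1, inv_app], by conv_lhs => rw [← (ha k).2.1, inv_app],
    (ha k).2.2.inv⟩

theorem fix_plane {g : Γ} (hg : g ∈ fixers P) (k : ι) (v : V) : f g ((P k).pr v) = (P k).pr v := by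
  rw [Plane.pr_apply, map_add, map_smul, map_smul, (hg k).1, (hg k).2.1]

theorem fixers_move {g : Γ} (hg : g ∈ fixers P) (k : ι) (v : V) : (P k).pr (f g v - v) = 0 := by
  rw [map_sub, (hg k).2.2, fix_plane hg, sub_self]

theorem fixers_comm (hf : ∀ g, f g = 1 → g = 1) {g : Γ} (hg : g ∈ fixers P) (k : ι) {x : Γ} (hx : x ∈ (P k).E) :
    g * x = x * g := eq_of_app hf fun v => by
  rw [mul_app, mul_app, (P k).act hx v, (P k).act hx (f g v), (hg k).2.2, fix_plane hg, map_add, map_sub,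
    fix_plane hg]
  congr 1
  conv_lhs => rw [← (P k).pr_pr v, ← (P k).cent_of_mem hx, fix_plane hg, (P k).cent_of_mem hx, (P k).pr_pr]

variable [Finite Γ] [Finite V] [Fact (Nat.Prime 3)]

theorem le_normalizer_fixers (hf : ∀ g, f g = 1 → g = 1) (k : ι) {S : Subgroup Γ} (hS : S ≤ fixers P) :
    (P k).E ≤ normalizer (S : Set Γ) := fun e he =>
  centralizer_le_normalizer _ fun s hs => fixers_comm hf (hS hs) k he

/-- A minimal nontrivial member of `𝒜` in `T`. -/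
def Min (𝒜 : Set (Subgroup Γ)) (T : Sylow 3 Γ) (B : Subgroup Γ) : Prop :=
  B ∈ 𝒜 ∧ B ≤ (T : Subgroup Γ) ∧ B ≠ ⊥ ∧ ∀ B' ∈ 𝒜, B' ≤ B → B' ≠ ⊥ → B' = B

theorem exists_min_le {A : Subgroup Γ} (hA : A ∈ 𝒜) (hAT : A ≤ (T : Subgroup Γ)) (hne : A ≠ ⊥) :
    ∃ B, Min 𝒜 T B ∧ B ≤ A := by
  obtain ⟨B, ⟨hB, hBA, hB1⟩, hmin⟩ := Set.exists_min_image {B | B ∈ 𝒜 ∧ B ≤ A ∧ B ≠ ⊥}
    (fun B => Nat.card ↥B) (Set.toFinite _) ⟨A, hA, le_rfl, hne⟩
  refine ⟨B, ⟨hB, hBA.trans hAT, hB1, fun B' hB' hle h1 => ?_⟩, hBA⟩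
  exact Subgroup.eq_of_le_of_card_ge hle (hmin B' ⟨hB', hle.trans hBA, h1⟩)

theorem Min.conj (h : Fam f T J 𝒜 P) {B : Subgroup Γ} (hB : Min 𝒜 T B) {g : Γ}
    (hg : cg g B ≤ (T : Subgroup Γ)) : Min 𝒜 T (cg g B) := by
  refine ⟨h.conj B hB.1 g, hg, fun e => hB.2.2.1 ((Subgroup.map_eq_bot_iff_of_injective _
    (MulAut.conj g).injective).1 e), fun B' hB' hle h1 => ?_⟩
  have e := hB.2.2.2 (cg g⁻¹ B') (h.conj B' hB' _) ((cg_mono hle _).trans (cg_inv g B).le) fun e =>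
    h1 ((Subgroup.map_eq_bot_iff_of_injective _ (MulAut.conj g⁻¹).injective).1 e)
  rw [← e, inv_cg]

namespace Fam

variable (h : Fam f T J 𝒜 P)
include h

theorem faithful : ∀ g, f g = 1 → g = 1 := h.planes.faithful

theorem T_norm_fixers : (T : Subgroup Γ) ≤ normalizer (fixers P : Set Γ) := fun t ht =>
  mem_normalizer_fintype fun g hg m => by
    obtain ⟨k, hk⟩ := h.planes.perm t⁻¹ (inv_mem ht) m
    have hk' : cg t (P k).E = (P m).E := by rw [← hk, inv_cg]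
    have hu : ∀ v, f (t * g * t⁻¹) ((P m).pr v) = (P m).pr v := fun v => by
      rw [mul_app, mul_app, ← h.planes.pr_map hk, fix_plane hg, h.planes.pr_map hk, app_inv]
    refine ⟨?_, ?_, fun v => ?_⟩
    · conv_lhs => rw [← (P m).pr_l, hu, (P m).pr_l]
    · conv_lhs => rw [← (P m).pr_y, hu, (P m).pr_y]
    · rw [hu, mul_app, mul_app, h.planes.pr_map hk', (hg k).2.2, fix_plane hg, ← h.planes.pr_map hk', app_inv]

/-- Without transvections a minimal member in `T` fixes every plane. -/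
theorem min_triv {B : Subgroup Γ} (hB : Min 𝒜 T B) (k : ι)
    (hnr : ∀ g, ¬ ∀ v, f g v = v + (P k).β v • (P k).l) : ∀ b ∈ B, f b (P k).y = (P k).y := by
  classical
  by_contra hne
  push Not at hne
  obtain ⟨b₁, hb₁, hb₁y⟩ := hne
  have hBJ : B ≤ J := h.mem_J B hB.1 hB.2.1
  have hA := h.planes.adapt k
  let ξ : Γ → ZMod 3 := fun b => (P k).α (f b (P k).y)
  have hξ : ∀ b ∈ B, f b (P k).y = ξ b • (P k).l + (P k).y := fun b hb => hA.pr_app (hBJ hb)
  let φ : ↥B →* Multiplicative (ZMod 3) :=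
    { toFun := fun b => Multiplicative.ofAdd (ξ b)
      map_one' := by simp [ξ, (P k).αy]
      map_mul' := fun a b => by
        rw [← ofAdd_add]; congr 1
        show (P k).α (f ((a : Γ) * (b : Γ)) (P k).y) = _
        rw [mul_app, hξ _ b.2, map_add, map_smul, hA.fixl _ (hBJ a.2), map_add, map_smul, (P k).αl]
        simp [ξ, add_comm] }
  set B₀ := φ.ker.map B.subtype
  have hB₀B : B₀ ≤ B := map_subtype_le _
  have hfix0 : ∀ b ∈ B₀, f b (P k).y = (P k).y := by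
    rintro _ ⟨a, ha, rfl⟩
    have e : ξ a = 0 := Multiplicative.ofAdd.injective (MonoidHom.mem_ker.1 ha : φ a = 1)
    show f (a : Γ) (P k).y = _
    rw [hξ _ a.2, e, zero_smul, zero_add]
  have hcardB : Nat.card ↥B ≤ 3 * Nat.card ↥B₀ := by
    rw [Subgroup.card_eq_card_quotient_mul_card_subgroup φ.ker,
      Nat.card_congr (QuotientGroup.quotientKerEquivRange φ).toEquiv,
      Subgroup.card_map_of_injective B.subtype_injective]
    refine Nat.mul_le_mul_right _ ?_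
    refine (Nat.card_le_card_of_injective (fun x : ↥φ.range => Multiplicative.toAdd (x : Multiplicative (ZMod 3)))
      fun x x' e => Subtype.ext (Multiplicative.toAdd.injective e)).trans ?_
    rw [Nat.card_zmod]
  let Φ : ZMod 3 × ↥(fixed f B) → ↥(fixed f B₀) := fun x => ⟨x.1 • (P k).y + (x.2 : V), fun b hb => by
    rw [map_add, map_smul, hfix0 b hb, x.2.2 b (hB₀B hb)]⟩
  have hβ : ∀ v : ↥(fixed f B), (P k).β (v : V) = 0 := fun v => hA.beta_zero (hBJ hb₁) hb₁y (v.2 b₁ hb₁)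
  have hΦ : Function.Injective Φ := by
    intro x x' e
    have e' : x.1 • (P k).y + (x.2 : V) = x'.1 • (P k).y + (x'.2 : V) := congrArg Subtype.val e
    have e1 := congrArg (P k).β e'
    simp only [map_add, map_smul, (P k).βy, hβ, smul_eq_mul, mul_one, add_zero] at e1
    rw [e1, add_right_inj] at e'
    exact Prod.ext e1 (Subtype.ext e')
  have hcardF : 3 * Nat.card ↥(fixed f B) ≤ Nat.card ↥(fixed f B₀) := by
    have := Nat.card_le_card_of_injective Φ hΦ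
    rwa [Nat.card_prod, Nat.card_zmod] at this
  have hge : wt f B ≤ wt f B₀ :=
    calc wt f B ≤ 3 * Nat.card ↥B₀ * Nat.card ↥(fixed f B) := Nat.mul_le_mul_right _ hcardB
      _ = Nat.card ↥B₀ * (3 * Nat.card ↥(fixed f B)) := by ring
      _ ≤ _ := Nat.mul_le_mul_left _ hcardF
  have heq : wt f B₀ = wt f B := le_antisymm (h.sub B hB.1 B₀ hB₀B) hge
  have hbot : B₀ = ⊥ := by
    by_contra hne0
    have e := hB.2.2.2 B₀ (h.sub_eq B hB.1 B₀ hB₀B heq) hB₀B hne0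
    exact hb₁y (hfix0 b₁ (e.ge hb₁))
  have hV : Nat.card ↥(fixed f B₀) ≤ Nat.card (ZMod 3 × ↥(fixed f B)) := by
    rw [Nat.card_prod, Nat.card_zmod]
    have hc : Nat.card ↥B₀ = 1 := by rw [hbot]; exact Subgroup.card_bot
    have e1 := heq.le
    simp only [wt, hc, one_mul] at e1
    rw [hc, mul_one] at hcardB
    exact e1.trans (Nat.mul_le_mul_right _ hcardB)
  have hsurj : Function.Surjective Φ :=
    ((Nat.bijective_iff_injective_and_card Φ).2 ⟨hΦ, le_antisymm (Nat.card_le_card_of_injective Φ hΦ) hV⟩).2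
  have hb : ∀ b ∈ B, ∀ v, f b v = v + (ξ b * (P k).β v) • (P k).l := by
    intro b hb v
    obtain ⟨⟨c, x⟩, e⟩ := hsurj ⟨v, fun d hd => by rw [hbot, mem_bot] at hd; rw [hd, map_one]; rfl⟩
    have e' : c • (P k).y + (x : V) = v := congrArg Subtype.val e
    rw [← e', map_add, map_smul, x.2 b hb, hξ b hb]
    simp only [map_add, map_smul, hβ, (P k).βy, smul_eq_mul, mul_one, add_zero, smul_add, smul_smul]
    rw [mul_comm c]; abel
  have hξ0 : ξ b₁ ≠ 0 := fun e => hb₁y (by rw [hξ _ hb₁, e, zero_smul, zero_add])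
  rcases zmod_three_cases (ξ b₁) with e | e | e
  · exact hξ0 e
  · exact hnr b₁ fun v => by rw [hb _ hb₁, e, one_mul]
  · refine hnr (b₁⁻¹) fun v => ?_
    have h1 := hb b₁ hb₁ (v + (P k).β v • (P k).l)
    rw [e, map_add ((P k).β), map_smul, (P k).βl, smul_zero, add_zero, neg_one_mul, neg_smul,
      add_neg_cancel_right] at h1
    conv_lhs => rw [← h1, inv_app]

end Fam

/-- The largest subgroup of `T` normal in `Q`. -/
def core (T : Sylow 3 Γ) (Q : Subgroup Γ) : Subgroup Γ where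
  carrier := {g | g ∈ Q ∧ ∀ q ∈ Q, q * g * q⁻¹ ∈ (T : Subgroup Γ)}
  one_mem' := ⟨one_mem _, fun q _ => by simp⟩
  mul_mem' {a b} ha hb := ⟨mul_mem ha.1 hb.1, fun q hq => by
    rw [show q * (a * b) * q⁻¹ = (q * a * q⁻¹) * (q * b * q⁻¹) by group]
    exact mul_mem (ha.2 q hq) (hb.2 q hq)⟩
  inv_mem' {a} ha := ⟨inv_mem ha.1, fun q hq => by
    rw [show q * a⁻¹ * q⁻¹ = (q * a * q⁻¹)⁻¹ by group]
    exact inv_mem (ha.2 q hq)⟩

theorem core_le (Q : Subgroup Γ) : core T Q ≤ (T : Subgroup Γ) := fun g hg => by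
  simpa using hg.2 1 (one_mem Q)

theorem core_le_right (Q : Subgroup Γ) : core T Q ≤ Q := fun _ hg => hg.1

theorem core_conj (Q : Subgroup Γ) {g : Γ} (hg : g ∈ core T Q) {q : Γ} (hq : q ∈ Q) :
    q * g * q⁻¹ ∈ core T Q := by
  refine ⟨mul_mem (mul_mem hq hg.1) (inv_mem hq), fun r hr => ?_⟩
  rw [show r * (q * g * q⁻¹) * r⁻¹ = (r * q) * g * (r * q)⁻¹ by group]
  exact hg.2 _ (mul_mem hr hq)

theorem le_normalizer_core (Q : Subgroup Γ) : Q ≤ normalizer (core T Q : Set Γ) :=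
  Subgroup.le_normalizer_iff.2 fun q hq g hg => core_conj Q hg hq

theorem le_core {Q R : Subgroup Γ} (hR : R ≤ (T : Subgroup Γ)) (hRQ : R ≤ Q)
    (hn : Q ≤ normalizer (R : Set Γ)) : R ≤ core T Q :=
  fun g hg => ⟨hRQ hg, fun q hq => hR ((mem_normalizer_iff.1 (hn hq) g).1 hg)⟩

/-- The subgroup generated by the elements of order prime to `3`. -/
def res (Q : Subgroup Γ) : Subgroup Γ := closure {g | g ∈ Q ∧ ¬ 3 ∣ orderOf g}

theorem res_le (Q : Subgroup Γ) : res Q ≤ Q := (closure_le _).2 fun _ hg => hg.1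

theorem res_normal (Q : Subgroup Γ) : Q ≤ normalizer (res Q : Set Γ) := by
  intro q hq
  rw [mem_normalizer_iff_map_conj_eq]
  refine Subgroup.eq_of_le_of_card_ge ?_ (card_cg q _).ge
  rw [res, MonoidHom.map_closure, closure_le]
  rintro _ ⟨g, ⟨hg, ho⟩, rfl⟩
  refine subset_closure ⟨mul_mem (mul_mem hq hg) (inv_mem hq), ?_⟩
  show ¬ 3 ∣ orderOf ((MulAut.conj q).toMonoidHom g)
  rw [orderOf_injective (MulAut.conj q).toMonoidHom (MulAut.conj q).injective]
  exact ho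

/-- An additive map on the residual vanishes. -/
theorem res_hom {Q : Subgroup Γ} {χ : Γ → V} (hχ : ∀ c ∈ res Q, ∀ d ∈ res Q, χ (c * d) = χ c + χ d) :
    ∀ c ∈ res Q, χ c = 0 := by
  have h1 : χ 1 = 0 := by
    have := hχ 1 (one_mem _) 1 (one_mem _)
    rw [one_mul] at this
    exact left_eq_add.1 this
  intro c hc
  induction hc using closure_induction with
  | mem g hg =>
    have hm : g ∈ res Q := subset_closure hg
    have hpow : ∀ n : ℕ, χ (g ^ n) = (n : ZMod 3) • χ g := by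
      intro n
      induction n with
      | zero => simp [h1]
      | succ n ih => rw [pow_succ, hχ _ (pow_mem hm n) _ hm, ih, Nat.cast_succ, add_smul, one_smul]
    have e := hpow (orderOf g)
    rw [pow_orderOf_eq_one, h1] at e
    exact (smul_eq_zero.1 e.symm).resolve_left fun hz => hg.2 ((CharP.cast_eq_zero_iff (ZMod 3) 3 _).1 hz)
  | one => exact h1
  | mul a b ha hb ea eb => rw [hχ a ha b hb, ea, eb, add_zero]
  | inv a ha ea =>
    have := hχ a ha a⁻¹ (inv_mem ha)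
    rw [mul_inv_cancel, h1, ea, zero_add] at this
    exact this.symm

theorem exists_pow_mem_res {Q : Subgroup Γ} {g : Γ} (hg : g ∈ Q) : ∃ k : ℕ, g ^ 3 ^ k ∈ res Q := by
  obtain ⟨k, m, hm, e⟩ := Nat.exists_eq_pow_mul_and_not_dvd (orderOf_pos g).ne' 3 (by norm_num)
  refine ⟨k, subset_closure ⟨pow_mem hg _, ?_⟩⟩
  rwa [orderOf_pow' _ (pow_ne_zero k (by norm_num)), e, Nat.gcd_mul_right_left,
    Nat.mul_div_cancel_left _ (Nat.pow_pos (by norm_num))]

theorem le_res_sup {Q : Subgroup Γ} (hTQ : (T : Subgroup Γ) ≤ Q) : Q ≤ res Q ⊔ (T : Subgroup Γ) := by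
  set R := (res Q).subgroupOf Q
  haveI : R.Normal := (normal_subgroupOf_iff_le_normalizer (res_le Q)).2 (res_normal Q)
  let T' := T.subtype hTQ
  have hp : IsPGroup 3 (↥Q ⧸ R) := by
    intro x
    obtain ⟨g, rfl⟩ := QuotientGroup.mk'_surjective R x
    obtain ⟨k, hk⟩ := exists_pow_mem_res g.2
    refine ⟨k, ?_⟩
    rw [← map_pow]
    exact (QuotientGroup.eq_one_iff _).2 (show ((g ^ 3 ^ k : ↥Q) : Γ) ∈ res Q by simpa using hk)
  obtain ⟨n, hn⟩ := hp.exists_card_eq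
  have h1 : (R ⊔ (T' : Subgroup ↥Q)).index ∣ 3 ^ n := by
    rw [← hn]; exact index_dvd_of_le le_sup_left
  obtain ⟨j, -, hj⟩ := (Nat.dvd_prime_pow Nat.prime_three).1 h1
  have htop : R ⊔ (T' : Subgroup ↥Q) = ⊤ := by
    rw [← index_eq_one, hj]
    by_contra hne
    have hj0 : j ≠ 0 := fun e => hne (by rw [e, pow_zero])
    refine T'.not_dvd_index (dvd_trans ?_ (index_dvd_of_le (le_sup_right (a := R))))
    rw [hj]
    exact dvd_pow_self 3 hj0
  intro g hg
  have hg' : (⟨g, hg⟩ : ↥Q) ∈ R ⊔ (T' : Subgroup ↥Q) := htop ▸ mem_top _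
  have h2 := mem_map_of_mem Q.subtype hg'
  rw [Subgroup.map_sup, map_subgroupOf_eq_of_le (res_le Q), Sylow.coe_subtype,
    map_subgroupOf_eq_of_le hTQ] at h2
  exact h2

/-- The hypotheses on a subgroup with one maximal subgroup over `T`, generating with the planes, when no
transvection of a plane lies in the group. -/
structure Top (f : Representation (ZMod 3) Γ V) (T : Sylow 3 Γ) (J : Subgroup Γ) (𝒜 : Set (Subgroup Γ))
    (P : ι → Plane f) (Q : Subgroup Γ) : Prop where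
  fam : Fam f T J 𝒜 P
  reduced : ∀ N : Subgroup Γ, N.Normal → IsPGroup 3 ↥N → N = ⊥
  le : (T : Subgroup Γ) ≤ Q
  uniq : ∀ M M' : Subgroup ↥Q, IsCoatom M → (T : Subgroup Γ).subgroupOf Q ≤ M → IsCoatom M' →
    (T : Subgroup Γ).subgroupOf Q ≤ M' → M = M'
  gen : (⨆ k, (P k).E) ⊔ Q = ⊤
  noTrans : ∀ k g, ¬ ∀ v, f g v = v + (P k).β v • (P k).l
  nonempty : Nonempty ι

namespace Top

variable {Q : Subgroup Γ} (c : Top f T J 𝒜 P Q)
include c

theorem min_fixers {B : Subgroup Γ} (hB : Min 𝒜 T B) : B ≤ fixers P := fun b hb k =>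
  have hbJ := c.fam.mem_J B hB.1 hB.2.1 hb
  ⟨(c.fam.planes.adapt k).fixl b hbJ, c.fam.min_triv hB k (c.noTrans k) b hb, (c.fam.planes.adapt k).cent b hbJ⟩

/-- A `3`-subgroup in `T` normalized by the members and by `Q` is trivial. -/
theorem eq_bot {N : Subgroup Γ} (hN : N ≤ (T : Subgroup Γ)) (hE : ∀ k, (P k).E ≤ normalizer (N : Set Γ))
    (hQ : Q ≤ normalizer (N : Set Γ)) : N = ⊥ := by
  refine c.reduced N (normalizer_eq_top_iff.1 (top_le_iff.1 ?_)) (T.isPGroup'.to_le hN)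
  exact c.gen.ge.trans (sup_le (iSup_le hE) hQ)

/-- No nontrivial member of `𝒜` lies in the core. -/
theorem not_le_core {A : Subgroup Γ} (hA : A ∈ 𝒜) (hAO : A ≤ core T Q) : A = ⊥ := by
  by_contra hne
  obtain ⟨B, hB, hBA⟩ := exists_min_le hA (hAO.trans (core_le Q)) hne
  set S := ⨆ B : {B : Subgroup Γ // Min 𝒜 T B ∧ B ≤ core T Q}, (B : Subgroup Γ)
  have hSf : S ≤ fixers P := iSup_le fun B => c.min_fixers B.2.1
  have hS : S = ⊥ := by
    refine c.eq_bot (iSup_le fun B => B.2.1.2.1) (fun k => le_normalizer_fixers c.fam.faithful k hSf) fun q hq => ?_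
    rw [mem_normalizer_iff_map_conj_eq]
    refine Subgroup.eq_of_le_of_card_ge ?_ (card_cg q _).ge
    simp only [S, Subgroup.map_iSup]
    refine iSup_le fun B => ?_
    have hO : cg q (B : Subgroup Γ) ≤ core T Q := by
      rintro _ ⟨b, hb, rfl⟩
      exact core_conj Q (B.2.2 hb) hq
    exact le_iSup (fun B : {B : Subgroup Γ // Min 𝒜 T B ∧ B ≤ core T Q} => (B : Subgroup Γ))
      ⟨cg q (B : Subgroup Γ), B.2.1.conj c.fam (hO.trans (core_le Q)), hO⟩
  exact hB.2.2.1 (le_bot_iff.1 (hS ▸ le_iSup (fun B : {B : Subgroup Γ // Min 𝒜 T B ∧ B ≤ core T Q} =>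
    (B : Subgroup Γ)) ⟨B, hB, hBA.trans hAO⟩))

theorem exists_min : ∃ B, Min 𝒜 T B := by
  obtain ⟨k⟩ := c.nonempty
  obtain ⟨A, hA, hAT, a, ha, hne⟩ := c.fam.full k
  refine ⟨_, (exists_min_le hA hAT fun e => hne ?_).choose_spec.1⟩
  rw [e, Subgroup.mem_bot] at ha
  rw [ha, map_one, Module.End.one_apply]

/-- A normal subgroup of `Q` supplemented by `T` contains the residual. -/
theorem res_le_of_sup {N : Subgroup Γ} (hNQ : N ≤ Q) (hn : Q ≤ normalizer (N : Set Γ))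
    (htop : N.subgroupOf Q ⊔ (T.subtype c.le : Subgroup ↥Q) = ⊤) : res Q ≤ N := by
  set N' := N.subgroupOf Q
  haveI : N'.Normal := (normal_subgroupOf_iff_le_normalizer hNQ).2 hn
  let T' := T.subtype c.le
  refine (closure_le _).2 fun g ⟨hg, ho⟩ => ?_
  obtain ⟨k, hk⟩ : ∃ k : ℕ, (⟨g, hg⟩ : ↥Q) ^ 3 ^ k ∈ N' := by
    have hp : IsPGroup 3 (↥Q ⧸ N') := T'.isPGroup'.of_surjective
      ((QuotientGroup.mk' N').comp (T' : Subgroup ↥Q).subtype) fun x => by
      obtain ⟨x, rfl⟩ := QuotientGroup.mk'_surjective N' x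
      obtain ⟨a, ha, b, hb, rfl⟩ := Subgroup.mem_sup_of_normal_left.1 (htop.ge (mem_top x))
      refine ⟨⟨b, hb⟩, ?_⟩
      show QuotientGroup.mk' N' b = QuotientGroup.mk' N' (a * b)
      rw [map_mul, show QuotientGroup.mk' N' a = 1 from (QuotientGroup.eq_one_iff a).2 ha, one_mul]
    obtain ⟨k, hk⟩ := hp (QuotientGroup.mk' N' ⟨g, hg⟩)
    exact ⟨k, (QuotientGroup.eq_one_iff _).1 (by rw [← hk]; rfl)⟩
  have hcop : (orderOf g).Coprime (3 ^ k) :=
    ((Nat.prime_three.coprime_iff_not_dvd).2 ho).symm.pow_right k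
  obtain ⟨m, hm⟩ := exists_pow_eq_self_of_coprime (x := g) hcop.symm
  rw [← hm]
  exact pow_mem (show g ^ 3 ^ k ∈ N from hk) m

/-- A subgroup normal in `Q` contains the residual or meets `T` in the core. -/
theorem normal_dichotomy {N : Subgroup Γ} (hNQ : N ≤ Q) (hn : Q ≤ normalizer (N : Set Γ)) :
    res Q ≤ N ∨ N ⊓ (T : Subgroup Γ) ≤ core T Q := by
  set N' := N.subgroupOf Q
  haveI : N'.Normal := (normal_subgroupOf_iff_le_normalizer hNQ).2 hn
  let T' := T.subtype c.le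
  by_cases htop : N' ⊔ (T' : Subgroup ↥Q) = ⊤
  · exact Or.inl (c.res_le_of_sup hNQ hn htop)
  right
  obtain ⟨M, hM, hle⟩ := (eq_top_or_exists_le_coatom _).resolve_left htop
  have hP : IsPGroup 3 ((T' : Subgroup ↥Q).subgroupOf N') :=
    T'.2.comap_of_injective N'.subtype N'.subtype_injective
  have hidx : ¬ 3 ∣ ((T' : Subgroup ↥Q).subgroupOf N').index := by
    intro hd
    change 3 ∣ (T' : Subgroup ↥Q).relIndex N' at hd
    refine T'.not_dvd_index (dvd_trans hd ?_)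
    obtain ⟨k, hk⟩ := Subgroup.relIndex_dvd_index_of_normal N' (T' : Subgroup ↥Q)
    refine Dvd.intro k (Nat.eq_of_mul_eq_mul_left (n := N'.relIndex (T' : Subgroup ↥Q))
      (Nat.pos_of_ne_zero Subgroup.index_ne_zero_of_finite) ?_)
    have h1 : N'.relIndex (T' : Subgroup ↥Q) * (T' : Subgroup ↥Q).index =
        (T' : Subgroup ↥Q).relIndex N' * N'.index := by
      rw [← Subgroup.inf_relIndex_right N', Subgroup.relIndex_mul_index inf_le_right,
        ← Subgroup.inf_relIndex_right (T' : Subgroup ↥Q), Subgroup.relIndex_mul_index inf_le_right, inf_comm]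
    rw [h1, hk]; ring
  let R := hP.toSylow hidx
  have hRmap : (R : Subgroup ↥N').map N'.subtype = (T' : Subgroup ↥Q) ⊓ N' :=
    subgroupOf_map_subtype _ _
  have hF := R.normalizer_sup_eq_top
  rw [hRmap] at hF
  have hTn : (T' : Subgroup ↥Q) ≤ normalizer (((T' : Subgroup ↥Q) ⊓ N' : Subgroup ↥Q) : Set ↥Q) :=
    Subgroup.le_normalizer_iff.2 fun t ht x hx =>
      ⟨(T' : Subgroup ↥Q).mul_mem ((T' : Subgroup ↥Q).mul_mem ht hx.1) ((T' : Subgroup ↥Q).inv_mem ht), Subgroup.Normal.conj_mem inferInstance x hx.2 t⟩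
  have hntop : normalizer (((T' : Subgroup ↥Q) ⊓ N' : Subgroup ↥Q) : Set ↥Q) = ⊤ := by
    by_contra hne
    obtain ⟨M', hM', hle'⟩ := (eq_top_or_exists_le_coatom _).resolve_left hne
    rw [c.uniq M' M hM' (hTn.trans hle') hM (le_sup_right.trans hle)] at hle'
    exact hM.1 (top_le_iff.1 (hF.ge.trans (sup_le hle' (le_sup_left.trans hle))))
  refine le_core inf_le_right (inf_le_left.trans hNQ) fun q hq => ?_
  rw [mem_normalizer_iff_map_conj_eq]
  refine Subgroup.eq_of_le_of_card_ge ?_ (card_cg q _).ge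
  rintro _ ⟨x, ⟨hxN, hxT⟩, rfl⟩
  have h1 := (mem_normalizer_iff.1 (hntop.ge (mem_top (⟨q, hq⟩ : ↥Q))) ⟨x, hNQ hxN⟩).1
    ⟨mem_subgroupOf.2 hxT, mem_subgroupOf.2 hxN⟩
  exact ⟨mem_subgroupOf.1 h1.2, mem_subgroupOf.1 h1.1⟩

/-- The conjugates under `Q` of minimal members generate a subgroup containing the residual. -/
theorem res_le_conj : res Q ≤ ⨆ x : ↥Q × {B : Subgroup Γ // Min 𝒜 T B}, cg (x.1 : Γ) (x.2 : Subgroup Γ) := by
  set N := ⨆ x : ↥Q × {B : Subgroup Γ // Min 𝒜 T B}, cg (x.1 : Γ) (x.2 : Subgroup Γ)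
  have hNQ : N ≤ Q := iSup_le fun x => by
    rintro _ ⟨b, hb, rfl⟩
    exact mul_mem (mul_mem x.1.2 (c.le (x.2.2.2.1 hb))) (inv_mem x.1.2)
  refine (c.normal_dichotomy hNQ fun q hq => ?_).resolve_right fun hle => ?_
  · rw [mem_normalizer_iff_map_conj_eq]
    refine Subgroup.eq_of_le_of_card_ge ?_ (card_cg q _).ge
    simp only [N, Subgroup.map_iSup]
    refine iSup_le fun x => ?_
    show cg q (cg (x.1 : Γ) (x.2 : Subgroup Γ)) ≤ _
    rw [cg_cg]
    exact le_iSup (fun x : ↥Q × {B : Subgroup Γ // Min 𝒜 T B} => cg (x.1 : Γ) (x.2 : Subgroup Γ))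
      (⟨q * x.1, mul_mem hq x.1.2⟩, x.2)
  · obtain ⟨B, hB⟩ := c.exists_min
    refine hB.2.2.1 (c.not_le_core hB.1 fun b hb => hle ⟨?_, hB.2.1 hb⟩)
    have := le_iSup (fun x : ↥Q × {B : Subgroup Γ // Min 𝒜 T B} => cg (x.1 : Γ) (x.2 : Subgroup Γ))
      (1, ⟨B, hB⟩)
    simp only [OneMemClass.coe_one, cg_one] at this
    exact this hb

end Top

end Cfsg.Agent.PLocal.CStar.Three
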