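import Cfsg.Agent.Lib.PLocal.Natural.Move
import Cfsg.Agent.Lib.PLocal.Natural.Offenders

/-!
A linear group with one maximal subgroup over a Sylow subgroup has no strict offender, modulo a kernel, in any
characteristic.
-/

set_option autoImplicit false
set_option linter.style.longLine false
set_option linter.unusedSectionVars false

namespace Cfsg.Agent.PLocal.CStar.Three

open Cfsg.Lib.Offender Cfsg.Agent.FFNatural

universe w z


variable {G : Type w} [Group G] [Finite G] {p : ℕ} [Fact p.Prime] {T : Sylow p G} {M K : Subgroup G}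

theorem normal_le_sylow {N : Subgroup G} (hN : N.Normal) (hp : IsPGroup p N) : N ≤ (T : Subgroup G) := by
  have h := T.3 (hp.to_sup_of_normal_left T.2) le_sup_right
  exact le_sup_left.trans h.le

/-- A normal subgroup that is a `p`-group modulo `K` lies in `K`. -/
theorem normal_le_kernel [K.Normal] (hM : IsCoatom M) (hle : (T : Subgroup G) ≤ M)
    (huniq : ∀ L : Subgroup G, IsCoatom L → (T : Subgroup G) ≤ L → L = M) (hKM : K ≤ M)
    (hQ : ∀ N : Subgroup G, N.Normal → IsPGroup p N → N ≤ K) {N : Subgroup G} [N.Normal] (hKN : K ≤ N)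
    (hN : IsPGroup p (N.map (QuotientGroup.mk' K))) : N ≤ K := by
  set R := (T : Subgroup G) ⊓ N with hRdef
  have hRp : IsPGroup p R := T.isPGroup'.to_le inf_le_left
  have hNR : ∀ n ∈ N, n ∈ K ⊔ R := by
    intro n hn
    let Tb := T.mapSurjective (QuotientGroup.mk'_surjective K)
    have hb : N.map (QuotientGroup.mk' K) ≤ (Tb : Subgroup (G ⧸ K)) :=
      normal_le_sylow (Subgroup.Normal.map inferInstance _ (QuotientGroup.mk'_surjective K)) hN
    obtain ⟨t, ht, e⟩ := hb (Subgroup.mem_map_of_mem _ hn)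
    have hk : n * t⁻¹ ∈ K := by
      rw [← QuotientGroup.eq_one_iff]
      show QuotientGroup.mk' K (n * t⁻¹) = 1
      rw [map_mul, map_inv, e, mul_inv_cancel]
    have htN : t ∈ N := by
      have := mul_mem (inv_mem (hKN hk)) hn
      simpa using this
    have := mul_mem (Subgroup.mem_sup_left hk : n * t⁻¹ ∈ K ⊔ R) (Subgroup.mem_sup_right ⟨ht, htN⟩ : t ∈ K ⊔ R)
    simpa using this
  -- `R` is a Sylow subgroup of `N`
  obtain ⟨Q₀, hQ₀⟩ := (hRp.comap_subtype (K := N)).exists_le_sylow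
  set R' := (Q₀ : Subgroup N).map N.subtype
  have hR' : R' = R := by
    refine (Subgroup.eq_of_le_of_card_ge (show R ≤ R' from fun t ht => ⟨⟨t, ht.2⟩, hQ₀ (show (⟨t, ht.2⟩ : N) ∈ R.comap N.subtype from ht), rfl⟩) ?_).symm
    obtain ⟨S, hS⟩ := (Q₀.isPGroup'.map N.subtype).exists_le_sylow
    obtain ⟨g, hg⟩ := MulAction.exists_smul_eq G S T
    rw [← card_cg g R']
    refine Subgroup.card_le_of_le ?_
    rintro _ ⟨t, ht, rfl⟩
    refine ⟨?_, ?_⟩
    · rw [← hg, Sylow.coe_subgroup_smul]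
      exact Subgroup.smul_mem_pointwise_smul _ (MulAut.conj g) _ (hS ht)
    · obtain ⟨t', -, rfl⟩ := ht
      exact Subgroup.Normal.conj_mem inferInstance _ t'.2 g
  have hFr := Q₀.normalizer_sup_eq_top
  have hTn : (T : Subgroup G) ≤ Subgroup.normalizer (R' : Set G) := by
    intro t ht
    refine cg_eq_iff.1 ?_
    rw [hR']
    refine Subgroup.eq_of_le_of_card_ge ?_ (card_cg t R).ge
    rintro _ ⟨n, hn, rfl⟩
    exact ⟨mul_mem (mul_mem ht hn.1) ((T : Subgroup G).inv_mem ht), Subgroup.Normal.conj_mem inferInstance _ hn.2 t⟩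
  by_cases htop : Subgroup.normalizer (R' : Set G) = ⊤
  · have hRn : R.Normal := hR' ▸ Subgroup.normalizer_eq_top_iff.1 htop
    intro n hn
    exact (sup_le le_rfl (hQ R hRn hRp)) (hNR n hn)
  · exfalso
    obtain ⟨L, hL, hle'⟩ := (eq_top_or_exists_le_coatom _).resolve_left htop
    have hLM : L = M := huniq L hL (hTn.trans hle')
    subst hLM
    refine hL.1 (top_le_iff.1 (hFr.ge.trans (sup_le hle' fun n hn => ?_)))
    exact (sup_le hKM ((inf_le_left : R ≤ T).trans hle)) (hNR n hn)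

variable {W : Type z} [AddCommGroup W] [Module (ZMod p) W] [Finite W]

/-- A group with a single maximal subgroup over a Sylow subgroup has no strict offender. -/
theorem no_strict_offender (ρ : Representation (ZMod p) G W) (hM : IsCoatom M) (hle : (T : Subgroup G) ≤ M)
    (huniq : ∀ L : Subgroup G, IsCoatom L → (T : Subgroup G) ≤ L → L = M) [K.Normal] (hKM : K ≤ M)
    (hker : ∀ g, g ∈ K ↔ ρ g = 1) (hQ : ∀ N : Subgroup G, N.Normal → IsPGroup p N → N ≤ K)
    {A : Subgroup G} (hne : ¬ A ≤ K) (hc : ∀ a ∈ A, ∀ b ∈ A, a * b = b * a) (hexp : ∀ a ∈ A, a ^ p = 1)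
    (hlt : Nat.card W * Nat.card ↥(A ⊓ K) < Nat.card ↥A * Nat.card ↥(fixed ρ A)) : False := by
  let π := QuotientGroup.mk' K
  have hπ : Function.Surjective π := QuotientGroup.mk'_surjective K
  let ρb : Representation (ZMod p) (G ⧸ K) W := QuotientGroup.lift K ρ fun g hg => (hker g).1 hg
  have hρb : ∀ g, ρb (π g) = ρ g := fun g => rfl
  have hinj : ∀ g, ρb g = 1 → g = 1 := by
    intro g hg
    obtain ⟨g, rfl⟩ := hπ g
    exact (QuotientGroup.eq_one_iff g).2 ((hker g).2 hg)
  let Tb := T.mapSurjective hπ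
  have hMb : IsCoatom (M.map π) := by
    have hback : (M.map π).comap π = M := by
      rw [Subgroup.comap_map_eq, QuotientGroup.ker_mk', sup_eq_left.2 hKM]
    refine ⟨fun e => hM.1 ?_, fun L hL => ?_⟩
    · rw [← hback, e, Subgroup.comap_top]
    · have h1 : M < L.comap π := hback ▸ (Subgroup.comap_lt_comap_of_surjective hπ).2 hL
      rw [← Subgroup.map_comap_eq_self_of_surjective hπ L, hM.2 _ h1, Subgroup.map_top_of_surjective _ hπ]
  have huniqb : ∀ L : Subgroup (G ⧸ K), IsCoatom L → (Tb : Subgroup (G ⧸ K)) ≤ L → L = M.map π := by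
    intro L hL hTL
    have h1 : L.comap π ≠ ⊤ := fun e => hL.1 (by
      rw [← Subgroup.map_comap_eq_self_of_surjective hπ L, e, Subgroup.map_top_of_surjective _ hπ])
    obtain ⟨L', hL', hle'⟩ := (eq_top_or_exists_le_coatom _).resolve_left h1
    have hT' : (T : Subgroup G) ≤ L.comap π := Subgroup.map_le_iff_le_comap.1 hTL
    have e := huniq L' hL' (hT'.trans hle')
    refine ((hL.le_iff.1 ?_).resolve_left hMb.1).symm
    rw [← Subgroup.map_comap_eq_self_of_surjective hπ L]
    exact Subgroup.map_mono (e ▸ hle')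
  have hcoreb : ∀ N : Subgroup (G ⧸ K), N.Normal → IsPGroup p N → N = ⊥ := by
    intro N hN hp
    have := hN.comap π
    have h1 := normal_le_kernel hM hle huniq hKM hQ (N := N.comap π)
      (fun k hk => by
        show π k ∈ N
        rw [show π k = 1 from (QuotientGroup.eq_one_iff k).2 hk]
        exact one_mem _)
      (by rw [Subgroup.map_comap_eq_self_of_surjective hπ]; exact hp)
    rw [eq_bot_iff, ← Subgroup.map_comap_eq_self_of_surjective hπ N]
    refine (Subgroup.map_mono h1).trans (le_of_eq ?_)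
    rw [Subgroup.map_eq_bot_iff, QuotientGroup.ker_mk']
  set Ab := A.map π with hAb
  have hfix : fixed ρb Ab = fixed ρ A := by
    ext v
    exact ⟨fun h a ha => h (π a) ⟨a, ha, rfl⟩, by rintro h _ ⟨a, ha, rfl⟩; exact h a ha⟩
  have hcard : Nat.card ↥A = Nat.card ↥Ab * Nat.card ↥(A ⊓ K) := by
    set ψ := π.comp A.subtype with hψ
    rw [Subgroup.card_eq_card_quotient_mul_card_subgroup ψ.ker]
    congr 1
    · rw [Nat.card_congr (QuotientGroup.quotientKerEquivRange ψ).toEquiv, hψ, MonoidHom.range_comp,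
        Subgroup.range_subtype, hAb]
    · refine Nat.card_congr
        { toFun := fun a => ⟨a.1.1, a.1.2, (QuotientGroup.eq_one_iff _).1 a.2⟩
          invFun := fun a => ⟨⟨a.1, a.2.1⟩, (QuotientGroup.eq_one_iff _).2 a.2.2⟩
          left_inv := fun a => rfl
          right_inv := fun a => rfl }
  have hlt' : Nat.card W < Nat.card ↥Ab * Nat.card ↥(fixed ρb Ab) := by
    rw [hfix]
    rw [hcard] at hlt
    refine Nat.lt_of_mul_lt_mul_right (a := Nat.card ↥(A ⊓ K)) ?_
    calc Nat.card W * Nat.card ↥(A ⊓ K) < _ := hlt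
      _ = Nat.card ↥Ab * Nat.card ↥(fixed ρ A) * Nat.card ↥(A ⊓ K) := by ring
  have hoff : IsOff ρb Ab := by
    refine ⟨fun e => hne ?_, ?_, ?_, hlt'.le⟩
    · rw [hAb, Subgroup.map_eq_bot_iff, QuotientGroup.ker_mk'] at e
      exact e
    · rintro _ ⟨a, ha, rfl⟩ _ ⟨b, hb, rfl⟩
      rw [← map_mul, hc a ha b hb, map_mul]
    · rintro _ ⟨a, ha, rfl⟩
      rw [← map_pow, hexp a ha, map_one]
  obtain ⟨q, F⟩ := exists_frame (T := Tb) hinj hMb (Subgroup.map_mono hle) huniqb hcoreb
    (sylow_fixed_not_le hMb (Subgroup.map_mono hle) huniqb hcoreb W ρb hinj ⟨Ab, hoff⟩) ⟨Ab, hoff⟩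
  obtain ⟨S, hS⟩ := hoff.isPGroup.exists_le_sylow
  obtain ⟨g, hg⟩ := MulAction.exists_smul_eq (G ⧸ K) Tb S
  have hsyl : IsSyl (Tb : Subgroup (G ⧸ K)) (S : Subgroup (G ⧸ K)) := ⟨g, by rw [← hg]; rfl⟩
  exact hlt'.ne (F.offender_spec hsyl hoff hS).2.2


end Cfsg.Agent.PLocal.CStar.Three
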