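import Cfsg.Agent.Lib.PLocal.CStar.Three.Fam
import Cfsg.Agent.Lib.PLocal.CStar.Three.Strict

/-!
The residual of a parabolic cannot move the fixed points of its core: exact offenders force the core to fix every
plane, so it is trivial, and offenders are generated by minimal ones.
-/

set_option linter.all false
set_option autoImplicit false

namespace Cfsg.Agent.PLocal.CStar.Three

open Subgroup
open Cfsg.Lib.Offender (fixed mem_fixed)
open Cfsg.Agent.FFNatural (cg mem_cg cg_one inv_cg card_cg card_sup_inf fixed_anti eq_of_le_of_card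
  IsOff Gen IsSyl genJoin exists_frame sylow_fixed_not_le mul_app inv_app app_inv)
open Cfsg.Agent.PLocal.CStar (vfix)

universe u v w

variable {Γ : Type u} {V : Type v} [Group Γ] [AddCommGroup V] [Module (ZMod 3) V]

theorem zmod_unit_sq : ∀ c : ZMod 3, c ≠ 0 → c * c = 1 := by decide

theorem exists_line_scalar {f : Representation (ZMod 3) Γ V} [Finite Γ] {ι : Type w} {T : Sylow 3 Γ}
    {J : Subgroup Γ} {P : ι → Plane f} (hP : Planes f T J P) {o : Γ} (ho : o ∈ (T : Subgroup Γ)) (k : ι)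
    (hc : (P k).Cent o) : ∃ s : ZMod 3, s ≠ 0 ∧ f o (P k).l = s • (P k).l :=
  hP.line_map (hP.T_norm_J ho) (Subgroup.mem_normalizer_iff_map_conj_eq.1
    (Plane.Cent.normalizer (P k) hP.faithful hc))

/-- A scalar eigenvalue of an element of a `3`-group is one. -/
theorem one_smul_of_pgroup {f : Representation (ZMod 3) Γ V} {ι : Type w} {T : Sylow 3 Γ} {P : ι → Plane f}
    {o : Γ} (ho : o ∈ (T : Subgroup Γ)) {s : ZMod 3} {k : ι} (hs : f o (P k).l = s • (P k).l) : s = 1 := by
  haveI : Fact (Nat.Prime 3) := ⟨Nat.prime_three⟩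
  obtain ⟨n, hn⟩ := T.isPGroup' ⟨o, ho⟩
  have hn' : o ^ 3 ^ n = 1 := by simpa using congrArg Subtype.val hn
  have hpow : ∀ m : ℕ, f (o ^ m) (P k).l = s ^ m • (P k).l := by
    intro m
    induction m with
    | zero => simp
    | succ m ih => rw [pow_succ', mul_app, ih, map_smul, hs, smul_smul, pow_succ]
  have h1 := hpow (3 ^ n)
  rw [hn', map_one, Module.End.one_apply, ZMod.pow_card_pow] at h1
  have h2 := congrArg (P k).α h1
  rw [map_smul, (P k).αl, smul_eq_mul, mul_one] at h2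
  exact h2.symm

/-- The representation on an invariant submodule. -/
def subRep (f : Representation (ZMod 3) Γ V) (Q : Subgroup Γ) (M : Submodule (ZMod 3) V)
    (h : ∀ g ∈ Q, ∀ v ∈ M, f g v ∈ M) : Representation (ZMod 3) ↥Q ↥M where
  toFun g := (f (g : Γ)).restrict (h g g.2)
  map_one' := LinearMap.ext fun v => Subtype.ext (by
    show f ((1 : ↥Q) : Γ) v = (v : V)
    rw [OneMemClass.coe_one, map_one, Module.End.one_apply])
  map_mul' g g' := LinearMap.ext fun v => Subtype.ext (by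
    show f ((g * g' : ↥Q) : Γ) v = f (g : Γ) (f (g' : Γ) v)
    rw [Subgroup.coe_mul, mul_app])

variable [Finite Γ] [Finite V] [Fact (Nat.Prime 3)]
variable {f : Representation (ZMod 3) Γ V} {T : Sylow 3 Γ} {J : Subgroup Γ} {𝒜 : Set (Subgroup Γ)}
variable {ι : Type w} {P : ι → Plane f} {Q : Subgroup Γ}

namespace Top

variable (c : Top f T J 𝒜 P Q)
include c

theorem fixed_core_invariant {g : Γ} (hg : g ∈ Q) {v : V} (hv : v ∈ fixed f (core T Q)) :
    f g v ∈ fixed f (core T Q) :=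
  fixed_map (le_normalizer_core Q hg) hv

variable (hmove : ¬ res Q ≤ vfix f (fixed f (core T Q)))
include hmove

/-- A coatom over `T` containing the kernel on the fixed points of the core. -/
theorem exists_coatom : ∃ M : Subgroup ↥Q, IsCoatom M ∧ (T : Subgroup Γ).subgroupOf Q ≤ M ∧
    (Q ⊓ vfix f (fixed f (core T Q))).subgroupOf Q ≤ M := by
  set K := Q ⊓ vfix f (fixed f (core T Q))
  have hne : K.subgroupOf Q ⊔ (T.subtype c.le : Subgroup ↥Q) ≠ ⊤ := fun e =>
    hmove ((c.res_le_of_sup inf_le_left (fun q hq => ?_) e).trans inf_le_right)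
  · obtain ⟨M, hM, hle⟩ := (eq_top_or_exists_le_coatom _).resolve_left hne
    exact ⟨M, hM, le_sup_right.trans hle, le_sup_left.trans hle⟩
  · rw [mem_normalizer_iff_map_conj_eq]
    refine Subgroup.eq_of_le_of_card_ge ?_ (card_cg q _).ge
    rintro _ ⟨x, ⟨hxQ, hxM⟩, rfl⟩
    refine ⟨Q.mul_mem (Q.mul_mem hq hxQ) (Q.inv_mem hq), fun v hv => ?_⟩
    show f (q * x * q⁻¹) v = v
    rw [mul_app, mul_app, hxM _ (c.fixed_core_invariant (inv_mem hq) hv), app_inv]

theorem kernel_inf_T : (Q ⊓ vfix f (fixed f (core T Q))) ⊓ (T : Subgroup Γ) ≤ core T Q := by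
  refine (c.normal_dichotomy inf_le_left fun q hq => ?_).resolve_left fun h => hmove (h.trans inf_le_right)
  rw [mem_normalizer_iff_map_conj_eq]
  refine Subgroup.eq_of_le_of_card_ge ?_ (card_cg q _).ge
  rintro _ ⟨x, ⟨hxQ, hxM⟩, rfl⟩
  refine ⟨Q.mul_mem (Q.mul_mem hq hxQ) (Q.inv_mem hq), fun v hv => ?_⟩
  show f (q * x * q⁻¹) v = v
  rw [mul_app, mul_app, hxM _ (c.fixed_core_invariant (inv_mem hq) hv), app_inv]

/-- No member of `𝒜` in `T` is a strict offender on the fixed points of the core. -/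
theorem not_strict {A : Subgroup Γ} (hA : A ∈ 𝒜) (hAT : A ≤ (T : Subgroup Γ)) (hne : A ≠ ⊥) :
    Nat.card ↥A * Nat.card ↥(fixed f (core T Q) ⊓ fixed f A) ≤
      Nat.card ↥(fixed f (core T Q)) * Nat.card ↥(A ⊓ core T Q) := by
  by_contra hlt
  push Not at hlt
  set M := fixed f (core T Q)
  set K := Q ⊓ vfix f M
  obtain ⟨Mx, hMx, hTMx, hKMx⟩ := c.exists_coatom hmove
  let T' := T.subtype c.le
  let ρ := subRep f Q M fun g hg v hv => c.fixed_core_invariant hg hv
  set K' := K.subgroupOf Q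
  haveI : K'.Normal := ⟨fun x hx g => by
    refine mem_subgroupOf.2 ⟨(g * x * g⁻¹ : ↥Q).2, fun v hv => ?_⟩
    rw [Subgroup.coe_mul, Subgroup.coe_mul, mul_app, mul_app,
      (mem_subgroupOf.1 hx).2 _ (c.fixed_core_invariant (g⁻¹).2 hv), Subgroup.coe_inv, app_inv]⟩
  have hAQ : A ≤ Q := hAT.trans c.le
  have hAK : A ⊓ K = A ⊓ core T Q := le_antisymm
    (le_inf inf_le_left fun x hx => c.kernel_inf_T hmove ⟨hx.2, hAT hx.1⟩)
    (le_inf inf_le_left fun x hx => ⟨core_le_right Q hx.2, fun v hv => hv x hx.2⟩)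
  refine no_strict_offender (p := 3) (T := T') (M := Mx) (K := K') ρ hMx hTMx
    (fun L hL hTL => c.uniq L Mx hL hTL hMx hTMx) hKMx (fun g => ?_) (fun N hN hp => ?_)
    (A := A.subgroupOf Q) (fun hle => hne ?_) (fun a ha b hb => Subtype.ext (c.fam.comm A hA _ ha _ hb))
    (fun a ha => Subtype.ext (by simpa using c.fam.exp A hA _ ha)) ?_
  · constructor
    · intro hg
      exact LinearMap.ext fun v => Subtype.ext ((mem_subgroupOf.1 hg).2 v v.2)
    · intro hg
      refine mem_subgroupOf.2 ⟨g.2, fun v hv => ?_⟩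
      exact congrArg Subtype.val (LinearMap.congr_fun hg ⟨v, hv⟩)
  · have hN' : N.map Q.subtype ≤ core T Q := by
      refine le_core ?_ (map_subtype_le N) fun q hq => ?_
      · rintro _ ⟨x, hx, rfl⟩
        exact mem_subgroupOf.1 (normal_le_sylow (T := T') hN hp hx)
      · exact le_normalizer_map Q.subtype (mem_map_of_mem (x := ⟨q, hq⟩) Q.subtype (by
          rw [normalizer_eq_top_iff.2 hN]; trivial))
    intro x hx
    exact mem_subgroupOf.2 ⟨x.2, fun v hv => hv _ (hN' ⟨x, hx, rfl⟩)⟩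
  · refine c.not_le_core hA fun a ha => ?_
    exact c.kernel_inf_T hmove ⟨mem_subgroupOf.1 (hle (show (⟨a, hAQ ha⟩ : ↥Q) ∈ A.subgroupOf Q from ha)), hAT ha⟩
  · have h1 : Nat.card ↥(A.subgroupOf Q ⊓ K') = Nat.card ↥(A ⊓ core T Q) := by
      rw [← hAK]
      show Nat.card ↥((A ⊓ K).subgroupOf Q) = _
      exact Nat.card_congr (Subgroup.subgroupOfEquivOfLe (inf_le_left.trans hAQ)).toEquiv
    have h2 : Nat.card ↥(A.subgroupOf Q) = Nat.card ↥A :=
      Nat.card_congr (Subgroup.subgroupOfEquivOfLe hAQ).toEquiv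
    have h3 : Nat.card ↥(fixed ρ (A.subgroupOf Q)) = Nat.card ↥(M ⊓ fixed f A) := Nat.card_congr
      { toFun := fun v => ⟨(v.1 : V), v.1.2, fun a ha =>
          congrArg Subtype.val (v.2 ⟨a, hAQ ha⟩ (mem_subgroupOf.2 ha))⟩
        invFun := fun v => ⟨⟨v.1, v.2.1⟩, fun a ha => Subtype.ext (v.2.2 a (mem_subgroupOf.1 ha))⟩
        left_inv := fun v => rfl
        right_inv := fun v => rfl }
    rw [h1, h2, h3]
    exact hlt

/-- A member of `𝒜` in `T` meets the core trivially and `V` is the fixed points of the core and its own. -/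
theorem exact_offender {A : Subgroup Γ} (hA : A ∈ 𝒜) (hAT : A ≤ (T : Subgroup Γ)) (hne : A ≠ ⊥) :
    fixed f (core T Q) ⊔ fixed f A = ⊤ ∧ wt f A = Nat.card V := by
  set M := fixed f (core T Q)
  set C := fixed f A
  have hns := c.not_strict hmove hA hAT hne
  have c1 := card_sup_inf M C
  have hA1 : A ⊓ core T Q = ⊥ := by
    refine c.not_le_core (c.fam.sub_eq A hA _ inf_le_left (le_antisymm (c.fam.sub A hA _ inf_le_left) ?_))
      inf_le_right
    have hsup : M ⊔ C ≤ fixed f (A ⊓ core T Q) :=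
      sup_le (fixed_anti inf_le_right) (fixed_anti inf_le_left)
    have h4 : Nat.card ↥(M ⊔ C) ≤ Nat.card ↥(fixed f (A ⊓ core T Q)) :=
      Nat.card_mono (Set.toFinite _) (SetLike.coe_subset_coe.2 hsup)
    refine le_trans ?_ (Nat.mul_le_mul_left _ h4)
    refine Nat.le_of_mul_le_mul_right (c := Nat.card ↥(M ⊓ C)) ?_ (Nat.card_pos (α := ↥(M ⊓ C)))
    calc wt f A * Nat.card ↥(M ⊓ C)
        = (Nat.card ↥A * Nat.card ↥(M ⊓ C)) * Nat.card ↥C := by rw [wt]; ring
      _ ≤ (Nat.card ↥M * Nat.card ↥(A ⊓ core T Q)) * Nat.card ↥C := Nat.mul_le_mul_right _ hns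
      _ = Nat.card ↥(A ⊓ core T Q) * (Nat.card ↥(M ⊔ C) * Nat.card ↥(M ⊓ C)) := by rw [c1]; ring
      _ = _ := by ring
  rw [hA1, Subgroup.card_bot, mul_one] at hns
  have h5 : wt f A ≤ Nat.card ↥(M ⊔ C) := by
    refine Nat.le_of_mul_le_mul_right (c := Nat.card ↥(M ⊓ C)) ?_ (Nat.card_pos (α := ↥(M ⊓ C)))
    calc wt f A * Nat.card ↥(M ⊓ C)
        = (Nat.card ↥A * Nat.card ↥(M ⊓ C)) * Nat.card ↥C := by rw [wt]; ring
      _ ≤ Nat.card ↥M * Nat.card ↥C := Nat.mul_le_mul_right _ hns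
      _ = _ := c1.symm
  have hV : Nat.card ↥(⊤ : Submodule (ZMod 3) V) = Nat.card V :=
    Nat.card_congr (Submodule.topEquiv (R := ZMod 3) (M := V)).toEquiv
  have htop : M ⊔ C = ⊤ := eq_of_le_of_card le_top (hV.le.trans ((c.fam.bound A hA).trans h5))
  refine ⟨htop, le_antisymm ?_ (c.fam.bound A hA)⟩
  rw [htop, hV] at h5
  exact h5

/-- The core fixes every plane. -/
theorem core_fixers : core T Q ≤ fixers P := by
  have hP := c.fam.planes
  have hTJ := hP.T_norm_J
  -- an element of the core normalizing a plane fixes it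
  have key : ∀ o ∈ core T Q, ∀ k, (P k).Cent o → f o (P k).l = (P k).l ∧ f o (P k).y = (P k).y := by
    intro o ho k hc
    obtain ⟨A, hA, hAT, a, ha, hay⟩ := c.fam.full k
    have hne : A ≠ ⊥ := fun e => hay (by
      rw [e, Subgroup.mem_bot] at ha
      rw [ha, map_one, Module.End.one_apply])
    have hoT := core_le Q ho
    have hl : f o (P k).l = (P k).l := by
      obtain ⟨t, ht, hfix⟩ := exists_line_scalar hP hoT k hc
      rw [hfix, one_smul_of_pgroup hoT hfix, one_smul]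
    refine ⟨hl, ?_⟩
    obtain ⟨m, hm, y, hy, e⟩ := Submodule.mem_sup.1
      (show (P k).y ∈ fixed f (core T Q) ⊔ fixed f A from (c.exact_offender hmove hA hAT hne).1.ge trivial)
    have hβ : (P k).β y = 0 :=
      (hP.adapt k).beta_zero (c.fam.mem_J A hA hAT ha) hay (hy a ha)
    have h1 : f o (P k).y - (P k).y = f o y - y := by rw [← e, map_add, hm o ho]; abel
    have h2 : (P k).pr (f o y - y) = 0 := by
      rw [map_sub, hc, Plane.pr_apply, hβ, zero_smul, add_zero, map_smul, hl, sub_self]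
    rw [← h1, map_sub, hc, (P k).pr_y] at h2
    exact sub_eq_zero.1 h2
  -- elements of the core map every plane to itself
  intro o ho k
  suffices hc : (P k).Cent o from ⟨(key o ho k hc).1, (key o ho k hc).2, hc⟩
  obtain ⟨l, hl⟩ := hP.perm o (core_le Q ho) k
  by_cases e : (P k).E = (P l).E
  · intro v
    rw [hP.pr_eq_of_E e]
    exact hP.pr_map hl v
  exfalso
  obtain ⟨A, hA, hAT, a, ha, hay⟩ := c.fam.full k
  have hne : A ≠ ⊥ := fun e => hay (by
    rw [e, Subgroup.mem_bot] at ha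
    rw [ha, map_one, Module.End.one_apply])
  have haJ := c.fam.mem_J A hA hAT ha
  -- the roots of `A` are constant along the orbit
  have hmove' : ∀ o' ∈ core T Q, ∀ j, cg o' (P k).E = (P j).E → f a (P j).y ≠ (P j).y := by
    intro o' ho' j hj hfix
    set w := o' * a * o'⁻¹ * a⁻¹ with hw
    have ho'T := core_le Q ho'
    have hwJ : w ∈ J := mul_mem ((mem_normalizer_iff.1 (hTJ ho'T) a).1 haJ) (inv_mem haJ)
    have hwO : w ∈ core T Q := by
      rw [hw, show o' * a * o'⁻¹ * a⁻¹ = o' * (a * o'⁻¹ * a⁻¹) by group]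
      exact mul_mem ho' (core_conj Q (inv_mem ho') (c.le (hP.J_le haJ)))
    have hwy := (key w hwO j ((hP.adapt j).cent w hwJ)).2
    have h1 : f (o' * a * o'⁻¹) (P j).y = (P j).y := by
      rw [show o' * a * o'⁻¹ = w * a by rw [hw]; group, mul_app, hfix, hwy]
    rw [mul_app, mul_app] at h1
    have h2 : f a (f o'⁻¹ (P j).y) = f o'⁻¹ (P j).y := by
      conv_rhs => rw [← h1, inv_app]
    have hβ := (hP.adapt k).beta_zero haJ hay h2
    have h3 := hP.hyper_map (hTJ ho'T) hj hβ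
    rw [app_inv, (P j).βy] at h3
    exact one_ne_zero h3
  obtain ⟨m, hm, y, hy, ey⟩ := Submodule.mem_sup.1
    (show (P k).y ∈ fixed f (core T Q) ⊔ fixed f A from (c.exact_offender hmove hA hAT hne).1.ge trivial)
  obtain ⟨j, hj⟩ := hP.perm o⁻¹ (inv_mem (core_le Q ho)) k
  have hj' : cg o (P j).E = (P k).E := by rw [← hj, inv_cg]
  have hβj : (P j).β y = 0 :=
    (hP.adapt j).beta_zero haJ (hmove' o⁻¹ (inv_mem ho) j hj) (hy a ha)
  have hβk : (P k).β y = 0 := (hP.adapt k).beta_zero haJ hay (hy a ha)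
  have h1 : f o (P k).y - (P k).y = f o y - y := by rw [← ey, map_add, hm o ho]; abel
  have h2 : (P k).β (f o (P k).y) = 0 := by
    have hy' : (P l).pr (f o (P k).y) = f o (P k).y := by rw [hP.pr_map hl, (P k).pr_y]
    rw [← hy', Plane.pr_apply, map_add, map_smul, map_smul, ((P k).pr_eq_zero.1 (hP.cross k l e).1).2,
      ((P k).pr_eq_zero.1 (hP.cross k l e).2).2, smul_zero, smul_zero, add_zero]
  have h3 := congrArg (P k).β h1
  rw [map_sub, map_sub, h2, (P k).βy, hP.hyper_map (hTJ (core_le Q ho)) hj' hβj, hβk] at h3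
  simp at h3

/-- The residual cannot move the fixed points of the core. -/
theorem false_of_move : False := by
  have hO : core T Q = ⊥ := c.eq_bot (core_le Q) (fun k => le_normalizer_fixers c.fam.faithful k (c.core_fixers hmove))
    (le_normalizer_core Q)
  obtain ⟨k⟩ := c.nonempty
  obtain ⟨A, hA, hAT, a, ha, hax⟩ := c.fam.full k
  have hne : A ≠ ⊥ := fun e => hax (by
    rw [e, Subgroup.mem_bot] at ha
    rw [ha, map_one, Module.End.one_apply])
  have hwt := (c.exact_offender hmove hA hAT hne).2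
  obtain ⟨Mx, hMx, hTMx, -⟩ := c.exists_coatom hmove
  let T' := T.subtype c.le
  let ρ : Representation (ZMod 3) ↥Q V := f.comp Q.subtype
  have hinj : ∀ g, ρ g = 1 → g = 1 := fun g hg => Subtype.ext (c.fam.faithful _ hg)
  have hcore : ∀ N : Subgroup ↥Q, N.Normal → IsPGroup 3 ↥N → N = ⊥ := by
    intro N hN hp
    have hle : N.map Q.subtype ≤ core T Q := by
      refine le_core ?_ (map_subtype_le N) fun q hq => ?_
      · rintro _ ⟨x, hx, rfl⟩
        exact mem_subgroupOf.1 (normal_le_sylow (T := T') hN hp hx)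
      · exact le_normalizer_map Q.subtype (mem_map_of_mem (x := ⟨q, hq⟩) Q.subtype (by
          rw [normalizer_eq_top_iff.2 hN]; trivial))
    rw [hO, le_bot_iff] at hle
    exact (map_eq_bot_iff_of_injective _ Q.subtype_injective).1 hle
  have hfix : ∀ B : Subgroup ↥Q, fixed ρ B = fixed f (B.map Q.subtype) := fun B => by
    ext v
    exact ⟨fun h => by rintro _ ⟨b, hb, rfl⟩; exact h b hb, fun h b hb => h b ⟨b, hb, rfl⟩⟩
  have hoff : ∀ B : Subgroup Γ, B ∈ 𝒜 → B ≤ (T : Subgroup Γ) → B ≠ ⊥ → IsOff ρ (B.subgroupOf Q) := by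
    intro B hB hBT hB1
    have hBQ : B ≤ Q := hBT.trans c.le
    refine ⟨fun e => hB1 ?_, fun x hx y hy => Subtype.ext (c.fam.comm B hB _ hx _ hy),
      fun x hx => Subtype.ext (by simpa using c.fam.exp B hB _ hx), ?_⟩
    · rw [← map_subgroupOf_eq_of_le hBQ, e, Subgroup.map_bot]
    · rw [hfix, map_subgroupOf_eq_of_le hBQ, Nat.card_congr (Subgroup.subgroupOfEquivOfLe hBQ).toEquiv]
      exact c.fam.bound B hB
  have hAQ : A ≤ Q := hAT.trans c.le
  obtain ⟨q, F⟩ := exists_frame (T := T') hinj hMx hTMx (fun L hL hTL => c.uniq L Mx hL hTL hMx hTMx) hcore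
    (sylow_fixed_not_le hMx hTMx (fun L hL hTL => c.uniq L Mx hL hTL hMx hTMx) hcore V ρ hinj
      ⟨_, hoff A hA hAT hne⟩) ⟨_, hoff A hA hAT hne⟩
  have hjoin := F.offender_le_genJoin (S := (T' : Subgroup ↥Q)) ⟨1, cg_one _⟩ (hoff A hA hAT hne)
    (fun x hx => mem_subgroupOf.2 (hAT (mem_subgroupOf.1 hx)))
  have hgen : genJoin ρ q (A.subgroupOf Q) ≤ (fixers P).subgroupOf Q := by
    refine iSup_le fun G => ?_
    have hG' : (G : Subgroup ↥Q).map Q.subtype ≤ A :=
      (Subgroup.map_mono G.2.2).trans (map_subgroupOf_eq_of_le hAQ).le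
    have hcard : Nat.card ↥((G : Subgroup ↥Q).map Q.subtype) = q := by
      rw [Subgroup.card_map_of_injective Q.subtype_injective]; exact G.2.1.card
    have hwtG : Nat.card V ≤ wt f ((G : Subgroup ↥Q).map Q.subtype) := by
      refine G.2.1.off.bound.trans (le_of_eq ?_)
      show _ = Nat.card ↥((G : Subgroup ↥Q).map Q.subtype) * _
      rw [hfix, Subgroup.card_map_of_injective Q.subtype_injective]
    have hGA : (G : Subgroup ↥Q).map Q.subtype ∈ 𝒜 :=
      c.fam.sub_eq A hA _ hG' (le_antisymm (c.fam.sub A hA _ hG') (hwt.le.trans hwtG))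
    have hmin : Min 𝒜 T ((G : Subgroup ↥Q).map Q.subtype) := by
      refine ⟨hGA, hG'.trans hAT, fun e => ?_, fun B hB hle hB1 => ?_⟩
      · exact G.2.1.off.ne_bot ((map_eq_bot_iff_of_injective _ Q.subtype_injective).1 e)
      · refine Subgroup.eq_of_le_of_card_ge hle ?_
        have h1 := F.minimal _ (hoff B hB ((hle.trans hG').trans hAT) hB1)
        rw [Nat.card_congr (Subgroup.subgroupOfEquivOfLe ((hle.trans hG').trans hAQ)).toEquiv] at h1
        exact hcard.le.trans h1
    intro x hx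
    exact mem_subgroupOf.2 (c.min_fixers hmin ⟨x, hx, rfl⟩)
  have hafix : a ∈ fixers P :=
    mem_subgroupOf.1 ((hjoin.trans hgen) (show (⟨a, hAQ ha⟩ : ↥Q) ∈ A.subgroupOf Q from ha))
  exact hax (hafix k).2.1

end Top

end Cfsg.Agent.PLocal.CStar.Three
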