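import Cfsg.Agent.Lib.PLocal.CStar.Member
import Cfsg.Agent.Lib.PLocal.Natural.Frame

/-!
A plane over the field with three elements with a quaternion group acting on it and fixing a complement: the
central involution, the stabilizer of the flag of an adapted basis, and its normal subgroup of exponent three.
-/

set_option linter.all false
set_option autoImplicit false

namespace Cfsg.Agent.PLocal.CStar.Three

open Subgroup
open Cfsg.Agent.FFNatural (cg mul_app inv_app app_inv)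

universe u v

variable {Γ : Type u} {V : Type v} [Group Γ] [AddCommGroup V] [Module (ZMod 3) V]
variable {f : Representation (ZMod 3) Γ V}

theorem three (w : V) : w + w + w = 0 := by
  have h : ((1 : ZMod 3) + 1 + 1) • w = 0 := by rw [show (1 : ZMod 3) + 1 + 1 = 0 by decide, zero_smul]
  rwa [add_smul, add_smul, one_smul] at h

theorem eq_of_app (hf : ∀ g, f g = 1 → g = 1) {a b : Γ} (h : ∀ v, f a v = f b v) : a = b :=
  inv_mul_eq_one.1 (hf _ (LinearMap.ext fun v => by
    rw [mul_app, ← h, inv_app, Module.End.one_apply]))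

/-- A quaternion group on a plane with coordinates, fixing the complement. -/
structure Plane (f : Representation (ZMod 3) Γ V) where
  E : Subgroup Γ
  l : V
  y : V
  α : V →ₗ[ZMod 3] ZMod 3
  β : V →ₗ[ZMod 3] ZMod 3
  αl : α l = 1
  αy : α y = 0
  βl : β l = 0
  βy : β y = 1
  fix : ∀ x ∈ E, ∀ v, α v = 0 → β v = 0 → f x v = v
  move : ∀ x ∈ E, ∀ v, α (f x v - v) • l + β (f x v - v) • y = f x v - v
  inv : ∃ e ∈ E, ∀ v, f e v = v + (α v • l + β v • y)
  quat : ∀ x ∈ E, x = 1 ∨ (∀ v, f x v = v + (α v • l + β v • y)) ∨ ∀ v, f x (f x v) = v + (α v • l + β v • y)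
  rot : ∃ x ∈ E, f x l = y ∧ f x y = -l
  sw : ∃ x ∈ E, f x l = l + y ∧ f x y = l - y
  large : ∀ g, (∀ v, α v = 0 → β v = 0 → f g v = v) → (∀ v, α (f g v - v) • l + β (f g v - v) • y = f g v - v) →
    (∀ v, f g (f g v) = v + (α v • l + β v • y)) → g ∈ E

namespace Plane

variable (P : Plane f)

/-- The projection onto the plane. -/
def pr : V →ₗ[ZMod 3] V := P.α.smulRight P.l + P.β.smulRight P.y

theorem pr_apply (v : V) : P.pr v = P.α v • P.l + P.β v • P.y := rfl

theorem pr_l : P.pr P.l = P.l := by rw [pr_apply, P.αl, P.βl, one_smul, zero_smul, add_zero]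

theorem pr_y : P.pr P.y = P.y := by rw [pr_apply, P.αy, P.βy, one_smul, zero_smul, zero_add]

theorem α_pr (v : V) : P.α (P.pr v) = P.α v := by simp [pr_apply, P.αl, P.αy]

theorem β_pr (v : V) : P.β (P.pr v) = P.β v := by simp [pr_apply, P.βl, P.βy]

theorem pr_pr (v : V) : P.pr (P.pr v) = P.pr v := by rw [pr_apply, α_pr, β_pr, ← pr_apply]

theorem pr_eq_zero {v : V} : P.pr v = 0 ↔ P.α v = 0 ∧ P.β v = 0 :=
  ⟨fun h => ⟨by rw [← α_pr, h, map_zero], by rw [← β_pr, h, map_zero]⟩,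
    fun h => by rw [pr_apply, h.1, h.2, zero_smul, zero_smul, add_zero]⟩

theorem pr_sub (v : V) : P.pr (v - P.pr v) = 0 := by rw [map_sub, pr_pr, sub_self]

theorem l_ne : P.l ≠ 0 := fun h => one_ne_zero (α := ZMod 3) (by rw [← P.αl, h, map_zero])

theorem pr_smul (c : ZMod 3) : P.pr (c • P.l) = c • P.l := by rw [map_smul, pr_l]

/-- An element commuting with the central involution. -/
def Cent (g : Γ) : Prop := ∀ v, P.pr (f g v) = f g (P.pr v)

theorem Cent.one : P.Cent 1 := fun v => by simp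

variable {P} in
theorem Cent.mul {a b : Γ} (ha : P.Cent a) (hb : P.Cent b) : P.Cent (a * b) := fun v => by
  rw [mul_app, mul_app, ha, hb]

variable {P} in
theorem Cent.inv {a : Γ} (ha : P.Cent a) : P.Cent a⁻¹ := fun v => by
  have h := ha (f a⁻¹ v)
  rw [app_inv] at h
  rw [h, inv_app]

/-- The decomposition of the action of an element of the group. -/
theorem act {x : Γ} (hx : x ∈ P.E) (v : V) : f x v = v - P.pr v + f x (P.pr v) := by
  have h := P.fix x hx (v - P.pr v) ((P.pr_eq_zero.1 (P.pr_sub v)).1) ((P.pr_eq_zero.1 (P.pr_sub v)).2)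
  conv_lhs => rw [← sub_add_cancel v (P.pr v), map_add, h]

theorem cent_of_mem {x : Γ} (hx : x ∈ P.E) : P.Cent x := fun v => by
  have hu : P.pr (f x (P.pr v)) = f x (P.pr v) := by
    have h := P.move x hx (P.pr v)
    rw [← pr_apply, map_sub, pr_pr] at h
    exact sub_left_inj.1 h
  rw [P.act hx v, map_add, P.pr_sub, zero_add, hu]

variable (hf : ∀ g, f g = 1 → g = 1)
include hf

theorem Cent.conj_mem {g x : Γ} (hg : P.Cent g) (hx : x ∈ P.E) : g * x * g⁻¹ ∈ P.E := by
  obtain ⟨e, he, he'⟩ := P.inv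
  simp only [← pr_apply] at he'
  have hop : ∀ v, f g (f g⁻¹ v + P.pr (f g⁻¹ v)) = v + P.pr v := fun v => by
    rw [map_add, app_inv, ← hg, app_inv]
  rcases P.quat x hx with rfl | h | h
  · simp
  · have h1 : g * x * g⁻¹ = e := eq_of_app hf fun v => by
      rw [mul_app, mul_app, h, ← pr_apply, hop, he']
    exact h1 ▸ he
  · refine P.large _ (fun v hα hβ => ?_) (fun v => ?_) fun v => ?_
    · have h0 : P.pr (f g⁻¹ v) = 0 := by rw [hg.inv, P.pr_eq_zero.2 ⟨hα, hβ⟩, map_zero]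
      rw [mul_app, mul_app, P.fix x hx _ (P.pr_eq_zero.1 h0).1 (P.pr_eq_zero.1 h0).2, app_inv]
    · have h1 := P.move x hx (f g⁻¹ v)
      rw [← pr_apply] at h1 ⊢
      rw [show f (g * x * g⁻¹) v - v = f g (f x (f g⁻¹ v) - f g⁻¹ v) by rw [map_sub, mul_app, mul_app, app_inv],
        hg, h1]
    · simp only [mul_app, inv_app]
      rw [h, ← pr_apply, hop, pr_apply]

theorem Cent.normalizer [Finite Γ] {g : Γ} (hg : P.Cent g) : g ∈ normalizer (P.E : Set Γ) :=
  mem_normalizer_fintype fun _ hx => hg.conj_mem P hf hx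

omit hf

/-- The stabilizer of the line and the hyperplane. -/
def Stab : Subgroup Γ where
  carrier := {g | (∃ c : ZMod 3, f g P.l = c • P.l) ∧ ∀ v, P.β v = 0 → P.β (f g v) = 0}
  one_mem' := ⟨⟨1, by simp⟩, fun v hv => by simpa using hv⟩
  mul_mem' := fun {a b} ⟨⟨c, hc⟩, ha⟩ ⟨⟨d, hd⟩, hb⟩ =>
    ⟨⟨d * c, by rw [mul_app, hd, map_smul, hc, smul_smul]⟩, fun v hv => by rw [mul_app]; exact ha _ (hb v hv)⟩
  inv_mem' := fun {a} ⟨⟨c, hc⟩, ha⟩ => by
    have hc0 : c ≠ 0 := fun e => P.l_ne (by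
      rw [e, zero_smul] at hc
      rw [← inv_app (f := f) a P.l, hc, map_zero])
    have hk : ∀ v, P.β (f a v) = P.β v * P.β (f a P.y) := fun v => by
      have h := ha (v - P.β v • P.y) (by simp [P.βy])
      rw [map_sub, map_sub, map_smul, map_smul, sub_eq_zero] at h
      rw [h, smul_eq_mul]
    refine ⟨⟨c⁻¹, ?_⟩, fun v hv => ?_⟩
    · have h := congrArg (f a⁻¹) hc
      rw [inv_app, map_smul] at h
      conv_rhs => rw [h, smul_smul, inv_mul_cancel₀ hc0, one_smul]
    · have h := hk (f a⁻¹ v)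
      rw [app_inv, hv] at h
      refine (mul_eq_zero.1 h.symm).resolve_right fun e => ?_
      have h1 := hk (f a⁻¹ P.y)
      rw [app_inv, P.βy, e, mul_zero] at h1
      exact one_ne_zero h1

theorem mem_stab {g : Γ} :
    g ∈ P.Stab ↔ (∃ c : ZMod 3, f g P.l = c • P.l) ∧ ∀ v, P.β v = 0 → P.β (f g v) = 0 := Iff.rfl

theorem β_stab {g : Γ} (hg : g ∈ P.Stab) (v : V) : P.β (f g v) = P.β v * P.β (f g P.y) := by
  have h := hg.2 (v - P.β v • P.y) (by simp [P.βy])
  rw [map_sub, map_sub, map_smul, map_smul, sub_eq_zero] at h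
  rw [h, smul_eq_mul]

/-- Trivial on the factors of the flag. -/
def Flag (g : Γ) : Prop :=
  f g P.l = P.l ∧ (∀ v, P.β (f g v) = P.β v) ∧ ∀ v, P.β v = 0 → f g v - v = P.α (f g v - v) • P.l

variable {P} in
theorem Flag.mul {a b : Γ} (ha : P.Flag a) (hb : P.Flag b) : P.Flag (a * b) := by
  refine ⟨by rw [mul_app, hb.1, ha.1], fun v => by rw [mul_app, ha.2.1, hb.2.1], fun v hv => ?_⟩
  have h1 : f (a * b) v - v = f a (f b v - v) + (f a v - v) := by rw [mul_app, map_sub]; abel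
  rw [h1, hb.2.2 v hv, map_smul, ha.1, ha.2.2 v hv]
  simp only [map_add, map_smul, P.αl, smul_eq_mul, mul_one, add_smul]

variable {P} in
theorem Flag.cube {a : Γ} (ha : P.Flag a) (v : V) : f a (f a (f a v)) = v := by
  set d := f a v - v with hd
  have hd0 : P.β d = 0 := by rw [hd, map_sub, ha.2.1, sub_self]
  have h1 := ha.2.2 d hd0
  set c := P.α (f a d - d)
  have h2 : f a v = v + d := by rw [hd]; abel
  have h3 : f a d = d + c • P.l := by rw [← h1]; abel
  rw [h2, map_add, h2, h3, map_add, map_add, map_add, map_smul, ha.1, h2, h3]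
  linear_combination (norm := abel) three d + three (c • P.l)

/-- The elements trivial on the factors of the flag. -/
def Zt (hf : ∀ g, f g = 1 → g = 1) : Subgroup Γ where
  carrier := {g | P.Flag g}
  one_mem' := ⟨by simp, fun v => by simp, fun v _ => by simp⟩
  mul_mem' := Flag.mul
  inv_mem' := fun {a} ha => by
    have h : a * (a * a) = 1 := eq_of_app hf fun v => by rw [mul_app, mul_app, ha.cube, map_one]; rfl
    show P.Flag a⁻¹
    rw [inv_eq_of_mul_eq_one_right h]
    exact ha.mul ha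

theorem mem_zt (hf : ∀ g, f g = 1 → g = 1) {g : Γ} : g ∈ P.Zt hf ↔ P.Flag g := Iff.rfl

theorem zt_pgroup (hf : ∀ g, f g = 1 → g = 1) : IsPGroup 3 ↥(P.Zt hf) := fun a =>
  ⟨1, Subtype.ext (eq_of_app hf fun v => by
    have h : f (a : Γ) (f (a : Γ) (f (a : Γ) v)) = v := Flag.cube a.2 v
    rw [pow_one, SubmonoidClass.coe_pow, pow_succ, pow_two, mul_app, mul_app, h, OneMemClass.coe_one, map_one]
    rfl)⟩

theorem zt_le_stab (hf : ∀ g, f g = 1 → g = 1) : P.Zt hf ≤ P.Stab := fun g hg =>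
  ⟨⟨1, by rw [hg.1, one_smul]⟩, fun v hv => by rw [hg.2.1, hv]⟩

theorem stab_le_normalizer [Finite Γ] (hf : ∀ g, f g = 1 → g = 1) :
    P.Stab ≤ normalizer (P.Zt hf : Set Γ) := fun g hg => mem_normalizer_fintype fun z hz => by
  obtain ⟨⟨c, hc⟩, -⟩ := P.Stab.inv_mem hg
  obtain ⟨⟨d, hd⟩, -⟩ := id hg
  refine ⟨?_, fun v => ?_, fun v hv => ?_⟩
  · rw [mul_app, mul_app, hc, map_smul (f z), hz.1, ← hc, app_inv]
  · rw [mul_app, mul_app, P.β_stab hg, hz.2.1, ← P.β_stab hg, app_inv]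
  · have h := hz.2.2 (f g⁻¹ v) ((P.Stab.inv_mem hg).2 v hv)
    rw [show f (g * z * g⁻¹) v - v = f g (f z (f g⁻¹ v) - f g⁻¹ v) by rw [map_sub, mul_app, mul_app, app_inv], h,
      map_smul, hd, smul_smul, map_smul, P.αl, smul_eq_mul, mul_one]

end Plane

end Cfsg.Agent.PLocal.CStar.Three
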