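import Cfsg.Agent.Lib.PLocal.CStar.Three.Adapt

/-!
In an adapted family of planes the subgroup trivial on a flag normalizes the group of the plane, so an element fixing the
line and the hyperplane of a plane, or fixing the plane pointwise, normalizes its group.
-/

set_option linter.all false
set_option autoImplicit false

namespace Cfsg.Agent.PLocal.CStar.Three

open Subgroup
open Cfsg.Agent.FFNatural (cg mem_cg cg_cg cg_inv card_cg mul_app inv_app app_inv)

universe u v w

variable {Γ : Type u} {V : Type v} [Group Γ] [AddCommGroup V] [Module (ZMod 3) V]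
variable {f : Representation (ZMod 3) Γ V}
variable {ι : Type w} {T : Sylow 3 Γ} {J : Subgroup Γ} {P : ι → Plane f}

/-- Every stabilizer of the line and the hyperplane centralizes the central involution. -/
def Plane.Rigid (Q : Plane f) : Prop := ∀ g ∈ Q.Stab, Q.Cent g

variable [Finite Γ]

theorem isPGroup_join {X : Type*} [Finite X] (K : X → Subgroup Γ) (hp : ∀ j, IsPGroup 3 ↥(K j))
    (hn : ∀ j k, K j ≤ normalizer (K k : Set Γ)) : IsPGroup 3 ↥(⨆ j, K j) := by
  classical
  haveI : Fact (Nat.Prime 3) := ⟨Nat.prime_three⟩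
  letI : Fintype X := Fintype.ofFinite X
  have key : ∀ s : Finset X, IsPGroup 3 ↥(s.sup K) := by
    intro s
    induction s using Finset.induction with
    | empty => rw [Finset.sup_empty]; exact IsPGroup.of_bot
    | insert j s _ ih =>
      rw [Finset.sup_insert, sup_comm]
      exact ih.to_sup_of_normal_right' (hp j) (Finset.sup_le fun k _ => hn k j)
  rw [← Finset.sup_univ_eq_iSup]
  exact key _

namespace Planes

variable (h : Planes f T J P)
include h

theorem line_map {t : Γ} (ht : t ∈ normalizer (J : Set Γ)) {k m : ι} (e : cg t (P k).E = (P m).E) :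
    ∃ c : ZMod 3, c ≠ 0 ∧ f t (P k).l = c • (P m).l := by
  have hu : (P m).pr (f t (P k).l) = f t (P k).l := by rw [h.pr_map e, (P k).pr_l]
  obtain ⟨j, hj, hne⟩ := (h.adapt m).moves
  have hfix : f j (f t (P k).l) = f t (P k).l := by
    have hj' : t⁻¹ * j * t ∈ J := (mem_normalizer_iff''.1 ht j).1 hj
    have h1 := (h.adapt k).fixl _ hj'
    rw [mul_app, mul_app] at h1
    conv_rhs => rw [← h1, app_inv]
  have hβ := (h.adapt m).beta_zero hj hne hfix
  rw [Plane.pr_apply, hβ, zero_smul, add_zero] at hu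
  refine ⟨_, fun e0 => (P k).l_ne ?_, hu.symm⟩
  rw [e0, zero_smul] at hu
  rw [← inv_app (f := f) t (P k).l, ← hu, map_zero]

theorem T_norm_J : (T : Subgroup Γ) ≤ normalizer (J : Set Γ) := fun t ht =>
  mem_normalizer_iff_map_conj_eq.2 (h.weak t (by
    rintro _ ⟨j, hj, rfl⟩
    exact mul_mem (mul_mem ht (h.J_le hj)) (inv_mem ht)))

theorem hyper_map {t : Γ} (ht : t ∈ normalizer (J : Set Γ)) {k m : ι} (e : cg t (P k).E = (P m).E) {v : V}
    (hv : (P k).β v = 0) : (P m).β (f t v) = 0 := by
  obtain ⟨c, -, hc⟩ := h.line_map ht e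
  rw [← Plane.β_pr, h.pr_map e, Plane.pr_apply, hv, zero_smul, add_zero, map_smul, hc, map_smul, map_smul,
    (P m).βl, smul_zero, smul_zero]

/-- A `3`-group containing `J` normalizes it. -/
theorem norm_of_pgroup {R : Subgroup Γ} (hR : IsPGroup 3 ↥R) (hJ : J ≤ R) : R ≤ normalizer (J : Set Γ) := by
  haveI : Fact (Nat.Prime 3) := ⟨Nat.prime_three⟩
  obtain ⟨S, hS⟩ := hR.exists_le_sylow
  obtain ⟨g, rfl⟩ := MulAction.exists_smul_eq Γ T S
  intro r hr
  obtain ⟨t, ht, e⟩ := hS hr
  have hJ' : cg g⁻¹ J ≤ (T : Subgroup Γ) := by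
    rintro _ ⟨j, hj, rfl⟩
    obtain ⟨t', ht', e'⟩ := hS (hJ hj)
    show g⁻¹ * j * g⁻¹⁻¹ ∈ _
    rw [← show g * t' * g⁻¹ = j from e', show g⁻¹ * (g * t' * g⁻¹) * g⁻¹⁻¹ = t' by group]
    exact ht'
  have hg : g ∈ normalizer (J : Set Γ) := inv_mem_iff.1 (mem_normalizer_iff_map_conj_eq.2 (h.weak _ hJ'))
  rw [← show g * t * g⁻¹ = r from e]
  exact mul_mem (mul_mem hg (h.T_norm_J ht)) (inv_mem hg)

theorem cent_of_flag (k : ι) {z : Γ} (hz : (P k).Flag z) : (P k).Cent z := by
  classical
  set hf := h.faithful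
  set Z := (P k).Zt hf
  have hzZ : z ∈ Z := hz
  have hJs : ∀ m, J ≤ (P m).Stab := fun m j hj => (h.adapt m).mem_stab hj
  have hJZ : J ≤ normalizer (Z : Set Γ) := (hJs k).trans ((P k).stab_le_normalizer hf)
  have hRp : IsPGroup 3 ↥(J ⊔ Z) :=
    (T.isPGroup'.to_le h.J_le).to_sup_of_normal_right' ((P k).zt_pgroup hf) hJZ
  -- commuting with `J`
  have hcomm : ∀ j ∈ J, z * j = j * z := by
    intro j hj
    have hzN := h.norm_of_pgroup hRp le_sup_left (Subgroup.mem_sup_right hzZ)
    set w := z * j * z⁻¹ * j⁻¹ with hw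
    have hwJ : w ∈ J := mul_mem ((mem_normalizer_iff.1 hzN j).1 hj) (inv_mem hj)
    have hwZ : w ∈ Z := by
      rw [show w = z * (j * z⁻¹ * j⁻¹) by rw [hw]; group]
      exact mul_mem hzZ ((mem_normalizer_iff.1 (hJZ hj) z⁻¹).1 (inv_mem hzZ))
    have hwf : (P k).Flag w := hwZ
    have hC : ∀ v, (P k).pr v = 0 → f w v = v := by
      intro v hv
      have h1 := hwf.2.2 v ((P k).pr_eq_zero.1 hv).2
      have h2 : (P k).pr (f w v - v) = 0 := by rw [map_sub, (h.adapt k).cent w hwJ, hv, map_zero, sub_self]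
      rw [h1, map_smul, (P k).pr_l] at h2
      rw [← sub_eq_zero, h1, h2]
    have hker : ∀ v, (P k).β v = 0 → f w v = v := by
      intro v hv
      have hp : (P k).pr v = (P k).α v • (P k).l := by rw [Plane.pr_apply, hv, zero_smul, add_zero]
      conv_lhs => rw [← sub_add_cancel v ((P k).pr v), map_add, hC _ ((P k).pr_sub v), hp, map_smul, hwf.1, ← hp,
        sub_add_cancel]
    set μ := (P k).α (f w (P k).y)
    have hwy : f w (P k).y = μ • (P k).l + (P k).y := (h.adapt k).pr_app hwJ
    set ξ := (P k).α (f j (P k).y)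
    have hjy : f j (P k).y = ξ • (P k).l + (P k).y := (h.adapt k).pr_app hj
    set d := f z (P k).y - (P k).y with hd
    have hd0 : (P k).β d = 0 := by rw [hd, map_sub, hz.2.1, sub_self]
    have hjd0 : (P k).β (f j d) = 0 := by rw [(h.adapt k).betaJ j hj, hd0]
    have hzy : f z (P k).y = (P k).y + d := by rw [hd]; abel
    have hrel : ∀ v, f z (f j v) = f w (f j (f z v)) := fun v => by
      rw [← mul_app, ← mul_app, ← mul_app]; congr 2; rw [hw]; group
    have h1 := hrel (P k).y
    rw [hjy, map_add, map_smul, hz.1, hzy, map_add, hjy, map_add, map_add, map_smul, hwf.1, hwy,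
      hker _ hjd0] at h1
    have hdiff : d - f j d = μ • (P k).l := by linear_combination (norm := abel) h1
    have hpr : (P k).pr (d - f j d) = 0 := by
      rw [map_sub, (h.adapt k).cent j hj, Plane.pr_apply (P k) d, hd0, zero_smul, add_zero, map_smul,
        (h.adapt k).fixl j hj, sub_self]
    rw [hdiff, map_smul, (P k).pr_l] at hpr
    rw [hpr, zero_add] at hwy
    have hw1 : w = 1 := hf _ (LinearMap.ext fun v => by
      rw [Module.End.one_apply]
      conv_lhs => rw [← sub_add_cancel v ((P k).β v • (P k).y), map_add, map_smul, hwy,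
        hker _ (by rw [map_sub, map_smul, (P k).βy, smul_eq_mul, mul_one, sub_self]), sub_add_cancel])
    rw [hw, mul_inv_eq_one, mul_inv_eq_iff_eq_mul] at hw1
    exact hw1
  -- stabilizing all lines and hyperplanes
  have hzD : z ∈ ⨅ m, (P m).Stab := by
    refine Subgroup.mem_iInf.2 fun m => ?_
    by_cases e : (P m).E = (P k).E
    · obtain ⟨c, hc0, hc⟩ := h.line_map (t := 1) (one_mem _) (k := m) (m := k) (by rw [Cfsg.Agent.FFNatural.cg_one]; exact e)
      rw [map_one, Module.End.one_apply] at hc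
      refine ⟨⟨1, ?_⟩, fun v hv => ?_⟩
      · rw [hc, map_smul, hz.1, one_smul]
      · have h1 := h.hyper_map (t := 1) (one_mem _) (k := m) (m := k) (by rw [Cfsg.Agent.FFNatural.cg_one]; exact e) hv
        rw [map_one, Module.End.one_apply] at h1
        have h2 := h.hyper_map (t := 1) (one_mem _) (k := k) (m := m)
          (by rw [Cfsg.Agent.FFNatural.cg_one]; exact e.symm) (v := f z v) (by rw [hz.2.1, h1])
        rwa [map_one, Module.End.one_apply] at h2
    obtain ⟨j, hj, hne⟩ := (h.adapt m).moves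
    have hk0 : ∀ v, (P k).pr v = 0 → (P k).β v = 0 := fun v hv => ((P k).pr_eq_zero.1 hv).2
    have hlm := (h.cross k m (Ne.symm e)).1
    have hym := (h.cross k m (Ne.symm e)).2
    have hjz : ∀ v, f z (f j v) = f j (f z v) := fun v => by rw [← mul_app, hcomm j hj, mul_app]
    have hlfix : f z (P m).l = (P m).l := by
      set c := (P k).α (f z (P m).y - (P m).y)
      have hzy : f z (P m).y = (P m).y + c • (P k).l := by rw [← hz.2.2 _ (hk0 _ hym)]; abel
      have h1 := hjz (P m).y
      set ξ := (P m).α (f j (P m).y)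
      have hjy : f j (P m).y = ξ • (P m).l + (P m).y := (h.adapt m).pr_app hj
      rw [hjy, map_add, map_smul, hzy, map_add, map_smul, (h.adapt k).fixl j hj, hjy] at h1
      have h2 : ξ • f z (P m).l = ξ • (P m).l := by linear_combination (norm := abel) h1
      have hξ : ξ ≠ 0 := fun e0 => hne (by rw [hjy, e0, zero_smul, zero_add])
      exact (smul_right_injective V hξ) h2
    refine ⟨⟨1, by rw [hlfix, one_smul]⟩, fun v hv => ?_⟩
    set d := f z (P k).y - (P k).y with hd
    have hjd : f j d = d := by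
      have h1 := hjz (P k).y
      have hjy := (h.adapt k).pr_app hj
      set ξ := (P k).α (f j (P k).y)
      rw [hjy, map_add, map_smul, hz.1] at h1
      rw [hd, map_sub, ← h1, hjy]
      abel
    have hβd : (P m).β d = 0 := (h.adapt m).beta_zero hj hne hjd
    have hβl : (P m).β (P k).l = 0 := ((P m).pr_eq_zero.1 (h.cross m k e).1).2
    have h1 := hz.2.2 (v - (P k).β v • (P k).y) (by rw [map_sub, map_smul, (P k).βy, smul_eq_mul, mul_one, sub_self])
    set a := (P k).α (f z (v - (P k).β v • (P k).y) - (v - (P k).β v • (P k).y))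
    have h2 : f z v = v + (P k).β v • d + a • (P k).l := by
      rw [map_sub, map_smul] at h1
      rw [hd, smul_sub]
      linear_combination (norm := abel) h1
    rw [h2, map_add, map_add, map_smul, map_smul, hv, hβd, hβl, smul_zero, smul_zero, add_zero, add_zero]
  -- the join of the normal subgroups lies in `T`
  set D := ⨅ m, (P m).Stab with hD
  set W := ⨆ a : {X : Subgroup Γ // ∃ m, X = (P m).Zt hf ⊓ D}, (a : Subgroup Γ) with hWdef
  have hnorm : ∀ m, D ≤ normalizer (((P m).Zt hf ⊓ D : Subgroup Γ) : Set Γ) := fun m g hg =>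
    mem_normalizer_fintype fun x hx => ⟨(mem_normalizer_iff.1 ((P m).stab_le_normalizer hf (Subgroup.mem_iInf.1 hg m)) x).1 hx.1,
      D.mul_mem (D.mul_mem hg hx.2) (D.inv_mem hg)⟩
  have hWp : IsPGroup 3 ↥W := isPGroup_join _ (fun a => by
      obtain ⟨m, hm⟩ := a.2
      exact hm.symm ▸ ((P m).zt_pgroup hf).to_le inf_le_left) fun a b => by
    obtain ⟨m, hm⟩ := a.2
    obtain ⟨n, hn⟩ := b.2
    rw [hm, hn]
    exact inf_le_right.trans (hnorm n)
  have hTW : (T : Subgroup Γ) ≤ normalizer (W : Set Γ) := by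
    intro t ht
    have hmap : ∀ {t : Γ}, t ∈ (T : Subgroup Γ) → ∀ g ∈ D, t * g * t⁻¹ ∈ D := by
      intro t ht g hg
      refine Subgroup.mem_iInf.2 fun m => ?_
      obtain ⟨n, hn⟩ := h.perm t⁻¹ (inv_mem ht) m
      have hn' : cg t (P n).E = (P m).E := by rw [← hn, Cfsg.Agent.FFNatural.inv_cg]
      obtain ⟨c, hc0, hc⟩ := h.line_map (h.T_norm_J ht) hn'
      obtain ⟨⟨d, hd⟩, hk⟩ := Subgroup.mem_iInf.1 hg n
      refine ⟨⟨d, ?_⟩, fun v hv => ?_⟩
      · have e1 : f t⁻¹ (P m).l = c⁻¹ • (P n).l := by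
          rw [← inv_app (f := f) t (P n).l, hc, map_smul, smul_smul, inv_mul_cancel₀ hc0, one_smul]
        rw [mul_app, mul_app, e1, map_smul, hd, map_smul, map_smul, hc, smul_smul, smul_smul]
        congr 1
        field_simp
      · rw [mul_app, mul_app]
        exact h.hyper_map (h.T_norm_J ht) hn' (hk _ (h.hyper_map (inv_mem (h.T_norm_J ht)) hn hv))
    rw [mem_normalizer_iff_map_conj_eq]
    refine Subgroup.eq_of_le_of_card_ge ?_ (card_cg t _).ge
    rw [hWdef, Subgroup.map_iSup]
    refine iSup_le fun a => ?_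
    obtain ⟨m, hm⟩ := a.2
    obtain ⟨n, hn⟩ := h.perm t ht m
    refine le_trans ?_ (le_iSup (fun a : {X : Subgroup Γ // ∃ m, X = (P m).Zt hf ⊓ D} => (a : Subgroup Γ))
      ⟨_, n, rfl⟩)
    rw [hm]
    rintro _ ⟨x, ⟨hx, hxD⟩, rfl⟩
    refine ⟨?_, hmap ht x hxD⟩
    obtain ⟨c, hc0, hc⟩ := h.line_map (h.T_norm_J ht) hn
    have hxf : (P m).Flag x := hx
    have e1 : f t⁻¹ (P n).l = c⁻¹ • (P m).l := by
      rw [← inv_app (f := f) t (P m).l, hc, map_smul, smul_smul, inv_mul_cancel₀ hc0, one_smul]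
    have hn' : cg t⁻¹ (P n).E = (P m).E := by rw [← hn, cg_inv]
    refine ⟨?_, fun v => ?_, fun v hv => ?_⟩
    · show f (t * x * t⁻¹) _ = _
      rw [mul_app, mul_app, e1, map_smul (f x), hxf.1, ← e1, app_inv]
    · show (P n).β (f (t * x * t⁻¹) v) = _
      have hd0 : (P m).β (f x (f t⁻¹ v) - f t⁻¹ v) = 0 := by rw [map_sub, hxf.2.1, sub_self]
      have h1 := h.hyper_map (h.T_norm_J ht) hn hd0
      rw [map_sub, app_inv, map_sub, sub_eq_zero] at h1
      rw [mul_app, mul_app, h1]
    · show f (t * x * t⁻¹) v - v = (P n).α (f (t * x * t⁻¹) v - v) • (P n).l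
      rw [show f (t * x * t⁻¹) v - v = f t (f x (f t⁻¹ v) - f t⁻¹ v) by rw [map_sub, mul_app, mul_app, app_inv],
        hxf.2.2 _ (h.hyper_map (inv_mem (h.T_norm_J ht)) hn' hv), map_smul, hc, smul_smul, map_smul,
        (P n).αl, smul_eq_mul, mul_one]
  have hWT : W ≤ (T : Subgroup Γ) := by
    haveI : Fact (Nat.Prime 3) := ⟨Nat.prime_three⟩
    exact le_sup_right.trans (T.3 (T.isPGroup'.to_sup_of_normal_right' hWp hTW) le_sup_left).le
  refine h.cent_of_line (hWT ?_) k ⟨1, by rw [hz.1, one_smul]⟩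
  exact le_iSup (fun a : {X : Subgroup Γ // ∃ m, X = (P m).Zt hf ⊓ D} => (a : Subgroup Γ))
    ⟨_, k, rfl⟩ ⟨hzZ, hzD⟩

/-- An element fixing the line and the hyperplane centralizes the central involution. -/
theorem rigid (k : ι) : (P k).Rigid := by
  intro g hg
  obtain ⟨e, he, he'⟩ := (P k).inv
  simp only [← Plane.pr_apply] at he'
  set e' := g * e * g⁻¹ with he'def
  have hop : ∀ v, f e' v = v + f g ((P k).pr (f g⁻¹ v)) := fun v => by
    rw [he'def, mul_app, mul_app, he', map_add, app_inv]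
  obtain ⟨⟨c, hc⟩, hker⟩ := id hg
  obtain ⟨⟨d, hd⟩, hker'⟩ := (P k).Stab.inv_mem hg
  have hgl : f g ((P k).pr (f g⁻¹ (P k).l)) = (P k).l := by
    rw [hd, map_smul, (P k).pr_l, ← hd, app_inv]
  have hflag : (P k).Flag (e' * e) := by
    refine ⟨?_, fun v => ?_, fun v hv => ?_⟩
    · rw [mul_app, he', (P k).pr_l, map_add, hop, hgl]
      linear_combination (norm := abel) three (P k).l
    · have h1 : ∀ v, (P k).β (f g ((P k).pr (f g⁻¹ v))) = (P k).β v := fun v => by
        rw [(P k).β_stab hg, Plane.β_pr, ← (P k).β_stab hg, app_inv]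
      rw [mul_app, he', hop, map_add, h1, map_add, Plane.β_pr]
      generalize (P k).β v = b
      revert b; decide
    · have hp : (P k).pr v = (P k).α v • (P k).l := by rw [Plane.pr_apply, hv, zero_smul, add_zero]
      rw [mul_app, he', hop, hp]
      set u := v + (P k).α v • (P k).l
      have hu : (P k).β (f g⁻¹ u) = 0 := hker' _ (by rw [map_add, map_smul, hv, (P k).βl, smul_zero, add_zero])
      rw [Plane.pr_apply, hu, zero_smul, add_zero, map_smul, hc, smul_smul]
      set a := (P k).α (f g⁻¹ u) * c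
      have e1 : u + a • (P k).l - v = ((P k).α v + a) • (P k).l := by simp only [u]; rw [add_smul]; abel
      rw [e1, map_smul, (P k).αl, smul_eq_mul, mul_one]
  have hcf := h.cent_of_flag k hflag
  set z := e' * e with hz
  clear_value z
  have hee : e * e = 1 := eq_of_app h.faithful fun v => by
    rw [mul_app, he' v, map_add, he' v, he' ((P k).pr v), (P k).pr_pr, map_one, Module.End.one_apply]
    linear_combination (norm := abel) three ((P k).pr v)
  have he'z : e' = z * e := by rw [hz, mul_assoc, hee, mul_one]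
  have hze : z * e = e * z := eq_of_app h.faithful fun v => by
    rw [mul_app, mul_app, he', he', map_add, hcf]
  have he'e' : e' * e' = 1 := by rw [he'def]; simp [mul_assoc]; rw [← mul_assoc e e, hee]; simp
  have hz2 : z * z = 1 := by
    calc z * z = z * (z * e) * e := by rw [mul_assoc, mul_assoc, hee, mul_one]
      _ = z * (e * z) * e := by rw [hze]
      _ = (z * e) * (z * e) := by group
      _ = 1 := by rw [← he'z, he'e']
  have hz3 : z * z * z = 1 := eq_of_app h.faithful fun v => by
    rw [mul_app, mul_app, hflag.cube, map_one]; rfl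
  rw [hz2, one_mul] at hz3
  intro v
  have h1 := hop (f g v)
  rw [inv_app, he'z, hz3, one_mul, he'] at h1
  exact (add_left_cancel h1)

end Planes

namespace Plane

variable {Q : Plane f} (hQ : Q.Rigid) (hf : ∀ g, f g = 1 → g = 1)
include hQ hf

theorem translation_trivial {z : Γ} (hl : f z Q.l = Q.l) (hy : f z Q.y = Q.y)
    (hm : ∀ v, Q.pr (f z v - v) = f z v - v) : z = 1 := by
  have hfu : ∀ u, Q.pr u = u → f z u = u := fun u hu => by
    rw [← hu, Q.pr_apply, map_add, map_smul, map_smul, hl, hy]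
  -- the first coordinate of such an element vanishes on the complement
  have key : ∀ (z : Γ), f z Q.l = Q.l → f z Q.y = Q.y → (∀ v, Q.pr (f z v - v) = f z v - v) →
      ∀ v, Q.α (f z v - v) = 0 := by
    intro z hl hy hm v
    have hfu : ∀ u, Q.pr u = u → f z u = u := fun u hu => by
      rw [← hu, Q.pr_apply, map_add, map_smul, map_smul, hl, hy]
    obtain ⟨i, hi, hil, hiy⟩ := Q.rot
    obtain ⟨s, hs, hsl, hsy⟩ := Q.sw
    set k := i * s with hkdef
    have hk : k ∈ Q.E := mul_mem hi hs
    set w := z⁻¹ * (s * z * s⁻¹) * (k * z * k⁻¹)⁻¹ with hw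
    -- the translations of the conjugates
    have hconj : ∀ x ∈ Q.E, ∀ v, f (x * z * x⁻¹) v = v + f x (f z v - v) := by
      intro x hx v
      have h1 := Q.act (inv_mem hx) v
      have h2 : Q.pr (f x⁻¹ v - v) = f x⁻¹ v - v := by
        have := Q.move x⁻¹ (inv_mem hx) v; rwa [← pr_apply] at this
      have h3 := hfu _ h2
      rw [map_sub, sub_eq_iff_eq_add] at h3
      rw [mul_app, mul_app, h3, show f x⁻¹ v - v + f z v = f x⁻¹ v + (f z v - v) by abel, map_add, app_inv]
    have hinv : ∀ x : Γ, f x Q.l = Q.l → f x Q.y = Q.y → ∀ (v d : V), f x v = v + d → Q.pr d = d →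
        f x⁻¹ v = v - d := by
      intro x hxl hxy v d e hd
      have h1 : f x d = d := by rw [← hd, Q.pr_apply, map_add, map_smul, map_smul, hxl, hxy]
      have h2 : f x (v - d) = v := by rw [map_sub, e, h1]; abel
      conv_lhs => rw [← h2, inv_app]
    set η := f z v - v with hη
    have hηu : Q.pr η = η := hm v
    have hku : ∀ x ∈ Q.E, Q.pr (f x η) = f x η := fun x hx => by rw [Q.cent_of_mem hx, hηu]
    have hkl : ∀ x ∈ Q.E, ∀ u, Q.pr u = u → f (x * z * x⁻¹) u = u := fun x hx u hu => by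
      rw [hconj x hx, show f z u - u = 0 by rw [hfu u hu, sub_self], map_zero, add_zero]
    have hwv : f w v = v - η + f s η - f k η := by
      have e1 : f (k * z * k⁻¹)⁻¹ v = v - f k η :=
        hinv _ (hkl k hk _ Q.pr_l) (hkl k hk _ Q.pr_y) v _ (hconj k hk v) (hku k hk)
      have e2 : f (s * z * s⁻¹) (v - f k η) = v + f s η - f k η := by
        rw [map_sub, hconj s hs, hkl s hs _ (hku k hk)]
      have e3 : f z⁻¹ (v + f s η - f k η) = v - η + f s η - f k η := by
        have hfz : ∀ u, Q.pr u = u → f z⁻¹ u = u := fun u hu => by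
          conv_lhs => rw [← hfu u hu, inv_app]
        have e4 : f z⁻¹ v = v - η := hinv z hl hy v η (by rw [hη]; abel) hηu
        rw [map_sub, map_add, e4, hfz _ (hku s hs), hfz _ (hku k hk)]
      rw [hw, mul_app, mul_app, e1, e2, e3]
    have hsum : -η + f s η - f k η = Q.α η • Q.l := by
      rw [hkdef, mul_app]
      conv_lhs => rw [← hηu, Q.pr_apply]
      simp only [map_add, map_smul, hsl, hsy, map_sub, hil, hiy]
      linear_combination (norm := module) (- (Q.β η)) • three Q.y
    have hwfix : ∀ u, Q.pr u = u → f w u = u := fun u hu => by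
      have hfz : f z⁻¹ u = u := by conv_lhs => rw [← hfu u hu, inv_app]
      have h5 : f (k * z * k⁻¹)⁻¹ u = u := by conv_lhs => rw [← hkl k hk u hu, inv_app]
      rw [hw, mul_app, mul_app, h5, hkl s hs u hu, hfz]
    have hwall : ∀ v', ∃ a : ZMod 3, f w v' = v' + a • Q.l := by
      intro v'
      set η' := f z v' - v'
      have e1 : f (k * z * k⁻¹)⁻¹ v' = v' - f k η' :=
        hinv _ (hkl k hk _ Q.pr_l) (hkl k hk _ Q.pr_y) v' _ (hconj k hk v')
          (by rw [Q.cent_of_mem hk, hm v'])
      refine ⟨Q.α η', ?_⟩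
      have hfz : ∀ u, Q.pr u = u → f z⁻¹ u = u := fun u hu => by
        conv_lhs => rw [← hfu u hu, inv_app]
      have e4 : f z⁻¹ v' = v' - η' := hinv z hl hy v' η' (by rw [show η' = f z v' - v' from rfl]; abel) (hm v')
      have hu1 : Q.pr (f k η') = f k η' := by rw [Q.cent_of_mem hk, hm v']
      have hu2 : Q.pr (f s η') = f s η' := by rw [Q.cent_of_mem hs, hm v']
      rw [hw, mul_app, mul_app, e1, map_sub, hconj s hs, hkl s hs _ hu1, map_sub, map_add, e4, hfz _ hu2,
        hfz _ hu1, hkdef, mul_app]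
      conv_lhs => rw [show η' = Q.pr η' from (hm v').symm, Q.pr_apply]
      simp only [map_add, map_smul, hsl, hsy, map_sub, hil, hiy]
      linear_combination (norm := module) (- (Q.β η')) • three Q.y
    have hws : w ∈ Q.Stab := ⟨⟨1, by rw [hwfix _ Q.pr_l, one_smul]⟩, fun u hu => by
      obtain ⟨a, ha⟩ := hwall u
      rw [ha, map_add, map_smul, hu, Q.βl, smul_zero, add_zero]⟩
    have hc := hQ w hws v
    rw [hwfix _ (Q.pr_pr v), hwv, show v - η + f s η - f k η = v + (-η + f s η - f k η) by abel, hsum, map_add,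
      map_smul, Q.pr_l, add_eq_left] at hc
    rcases smul_eq_zero.1 hc with h0 | h0
    · exact h0
    · exact absurd h0 Q.l_ne
  refine hf _ (LinearMap.ext fun v => ?_)
  obtain ⟨i, hi, hil, hiy⟩ := Q.rot
  have hconj : ∀ v, f (i * z * i⁻¹) v = v + f i (f z v - v) := fun v => by
    have h2 : Q.pr (f i⁻¹ v - v) = f i⁻¹ v - v := by
      have := Q.move i⁻¹ (inv_mem hi) v; rwa [← pr_apply] at this
    have h3 := hfu _ h2
    rw [map_sub, sub_eq_iff_eq_add] at h3
    rw [mul_app, mul_app, h3, show f i⁻¹ v - v + f z v = f i⁻¹ v + (f z v - v) by abel, map_add, app_inv]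
  have ha := key z hl hy hm v
  have hb := key (i * z * i⁻¹) (by rw [hconj, hl, sub_self, map_zero, add_zero])
    (by rw [hconj, hy, sub_self, map_zero, add_zero]) (fun u => by
      rw [hconj, add_sub_cancel_left, Q.cent_of_mem hi, hm]) v
  rw [hconj, add_sub_cancel_left] at hb
  conv at hb => rw [← hm v, Q.pr_apply, map_add, map_smul, map_smul, hil, hiy]
  simp [Q.αl, Q.αy] at hb
  rw [Module.End.one_apply, ← sub_eq_zero, ← hm v, Q.pr_apply, ha]
  rw [show Q.β (f z v - v) = 0 by rw [map_sub]; linear_combination -hb]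
  simp

/-- An element fixing the plane pointwise centralizes the central involution. -/
theorem cent_of_fix {g : Γ} (hl : f g Q.l = Q.l) (hy : f g Q.y = Q.y) : Q.Cent g := by
  obtain ⟨e, he, he'⟩ := Q.inv
  simp only [← pr_apply] at he'
  have hu : ∀ u, Q.pr u = u → f g u = u := fun u hu => by
    rw [← hu, Q.pr_apply, map_add, map_smul, map_smul, hl, hy]
  have hop : ∀ v, f (g * e * g⁻¹) v = v + Q.pr (f g⁻¹ v) := fun v => by
    rw [mul_app, mul_app, he', map_add, app_inv, hu _ (Q.pr_pr _)]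
  have hfix : ∀ u, Q.pr u = u → f (g * e * g⁻¹ * e) u = u := fun u hu' => by
    have hgi : f g⁻¹ u = u := by conv_lhs => rw [← hu u hu', inv_app]
    rw [mul_app, he', hu', map_add, hop, hgi, hu']
    linear_combination (norm := abel) three u
  have hz : g * e * g⁻¹ * e = 1 := translation_trivial hQ hf (hfix _ Q.pr_l) (hfix _ Q.pr_y) fun v => by
    rw [mul_app, he', hop, show v + Q.pr v + Q.pr (f g⁻¹ (v + Q.pr v)) - v = Q.pr v + Q.pr (f g⁻¹ (v + Q.pr v)) by abel,
      map_add, Q.pr_pr, Q.pr_pr]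
  intro v
  have hee : e * e = 1 := eq_of_app hf fun v => by
    rw [mul_app, he' v, map_add, he' v, he' (Q.pr v), Q.pr_pr, map_one, Module.End.one_apply]
    linear_combination (norm := abel) three (Q.pr v)
  have he2 : g * e * g⁻¹ = e := by
    calc g * e * g⁻¹ = (g * e * g⁻¹ * e) * e := by rw [mul_assoc _ e e, hee, mul_one]
      _ = e := by rw [hz, one_mul]
  have h1 := hop (f g v)
  rw [he2, he', inv_app] at h1
  rw [add_left_cancel h1, hu _ (Q.pr_pr v)]

end Plane

end Cfsg.Agent.PLocal.CStar.Three
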